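import Cfsg.Agent.Fusion.Residual.Stable
import Cfsg.Agent.Fusion.PPowerDegree.System
import Cfsg.Agent.Fusion.HyperfocalAction
import Cfsg.Agent.Fusion.CharacterSub
import Cfsg.Agent.Fusion.NormalCentralizer.Basic

/-!
A descending chain of saturated subsystems along a chain of normal subgroups of the automizer of
the top of a normal subsystem, with factors of `p`-power order or of order prime to `p`.
-/

set_option autoImplicit false
set_option linter.unusedSectionVars false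
set_option linter.style.haveILetI false
set_option maxHeartbeats 2000000

namespace Cfsg.Lib.Fusion.ResLim

open Cfsg Cfsg.FusionSystem Cfsg.Lib.Fusion

variable {Ω : Type*} [Group Ω] {S T : Subgroup Ω} {F : FusionSystem S} {E : FusionSystem T}
  {p : ℕ} {K K' : Subgroup (MulAut T)}

/-- The elements of `S` acting on `T` within `K`. -/
def kerSub (S T : Subgroup Ω) (K : Subgroup (MulAut T)) : Subgroup Ω where
  carrier := {s | s ∈ S ∧ ∃ β ∈ K, ∀ t : T, ((β t : T) : Ω) = s * t * s⁻¹}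
  one_mem' := ⟨S.one_mem, 1, K.one_mem, fun t => by simp⟩
  mul_mem' := by
    rintro a b ⟨ha, β, hβ, e⟩ ⟨hb, γ, hγ, e'⟩
    refine ⟨S.mul_mem ha hb, β * γ, K.mul_mem hβ hγ, fun t => ?_⟩
    rw [MulAut.mul_apply, e, e']
    group
  inv_mem' := by
    rintro a ⟨ha, β, hβ, e⟩
    refine ⟨S.inv_mem ha, β⁻¹, K.inv_mem hβ, fun t => ?_⟩
    have h := e (β⁻¹ t)
    rw [MulAut.apply_inv_self] at h
    rw [h]
    group

theorem mem_kerSub {s : Ω} :
    s ∈ kerSub S T K ↔ s ∈ S ∧ ∃ β ∈ K, ∀ t : T, ((β t : T) : Ω) = s * t * s⁻¹ := Iff.rfl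

theorem kerSub_mono (h : K' ≤ K) : kerSub S T K' ≤ kerSub S T K :=
  fun _ ⟨hs, β, hβ, e⟩ => ⟨hs, β, h hβ, e⟩

theorem le_kerSub : kerSub S T K ≤ S := fun _ h => h.1

/-- An automorphism compatible with the normal subsystem on a centric subgroup of `T`. -/
def RCond (E : FusionSystem T) (M : Subgroup Ω) (β : MulAut M) : Prop :=
  E.IsCentric (M ⊓ T) ∧ IsMap E (M ⊓ T) (autFun β)

/-- The member of the chain at `K`. -/
structure Link (F : FusionSystem S) (E : FusionSystem T) (p : ℕ) (K : Subgroup (MulAut T))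
    (U : Subgroup Ω) (G : FusionSystem U) : Prop where
  grp : U = kerSub S T K
  sat : G.IsSaturated p
  le : G.IsSubsystemOf F
  base : E.IsSubsystemOf G
  aut : G.autGroup T = K
  rcond : ∀ M : Subgroup Ω, M ≤ T ⊔ centralizerIn S T → ∀ β ∈ F.autGroup M,
    (orderOf β).Coprime p → RCond E M β → β ∈ G.autGroup M
  lim : ∀ {V : Subgroup Ω} (X : FusionSystem V), X.IsWeaklyNormalIn F p → Stable X p →
    X.IsSubsystemOf G

variable [Finite S] [Fact p.Prime]

theorem autGroup_base_le (hE : E.IsWeaklyNormalIn F p) : E.autGroup T ≤ F.autGroup T :=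
  PPower.autGroup_le_of_sub hE.2.2.1 le_rfl hE.2.2.2.1.1

theorem sup_le_kerSub (hE : E.IsWeaklyNormalIn F p) (hB : E.autGroup T ≤ K) :
    T ⊔ centralizerIn S T ≤ kerSub S T K := by
  refine sup_le (fun t ht => ⟨hE.2.2.2.1.1 ht, conjAut T t (Subgroup.le_normalizer ht),
    hB (autInducedBy_le le_rfl (conjAut_mem_autInducedBy _ ht)), fun x => conjAut_apply _ x⟩)
    fun c hc => ⟨hc.1, 1, K.one_mem, fun x => ?_⟩
  rw [MulAut.one_apply, (Fusion.mem_centralizerIn.mp hc).2 x x.2]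

theorem kerSub_top (hE : E.IsWeaklyNormalIn F p) : kerSub S T (F.autGroup T) = S :=
  le_antisymm le_kerSub fun s hs => ⟨hs, conjAut T s (normalizes_of_stronglyClosed hE.2.2.2.1 hs),
    autInducedBy_le hE.2.2.2.1.1 (conjAut_mem_autInducedBy _ hs), fun x => conjAut_apply _ x⟩

theorem link_top (hS : IsPGroup p S) (hE : E.IsWeaklyNormalIn F p) :
    Link F E p (F.autGroup T) S F :=
  ⟨(kerSub_top hE).symm, hE.2.1, fun _ => Set.Subset.rfl, hE.2.2.1, rfl,
    fun _ _ _ hβ _ _ => hβ, fun _ hX _ => hX.2.2.1⟩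

variable {U : Subgroup Ω} {G : FusionSystem U}

theorem Link.le_S (h : Link F E p K U G) : U ≤ S := h.grp ▸ le_kerSub

theorem Link.pgroup (h : Link F E p K U G) (hS : IsPGroup p S) : IsPGroup p U :=
  hS.of_injective _ (Subgroup.inclusion_injective h.le_S)

theorem Link.base_wn (h : Link F E p K U G) (hS : IsPGroup p S) (hE : E.IsWeaklyNormalIn F p) :
    E.IsWeaklyNormalIn G p :=
  wn_restrict hS hE h.sat h.le h.base

/-- An element whose power lies in a normal subgroup of index prime to `p` lies in it. -/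
theorem root_mem {A : Type*} [Group A] {K K' : Subgroup A} (hle : K' ≤ K)
    (hn : ∀ a ∈ K, ∀ b ∈ K', a * b * a⁻¹ ∈ K') (hidx : (K'.relIndex K).Coprime p) {a : A}
    (ha : a ∈ K) {k : ℕ} (hk : a ^ p ^ k ∈ K') : a ∈ K' := by
  haveI : (K'.subgroupOf K).Normal := ⟨fun x hx g => hn g g.2 x hx⟩
  set q : K ⧸ K'.subgroupOf K := QuotientGroup.mk' (K'.subgroupOf K) ⟨a, ha⟩ with hq
  have h1 : q ^ p ^ k = 1 := by
    rw [hq, ← map_pow]
    exact (QuotientGroup.eq_one_iff _).mpr hk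
  have h2 : orderOf q ∣ K'.relIndex K := orderOf_dvd_natCard q
  have h3 : q = 1 := orderOf_eq_one_iff.mp (Nat.eq_one_of_dvd_coprimes
    (Nat.Coprime.pow_left k hidx.symm) (orderOf_dvd_of_pow_eq_one h1) h2)
  exact (QuotientGroup.eq_one_iff (⟨a, ha⟩ : K)).mp h3

/-- An element of order prime to `p` lies in a normal subgroup of `p`-power index. -/
theorem coprime_mem {A : Type*} [Group A] {K K' : Subgroup A} (hle : K' ≤ K)
    (hn : ∀ a ∈ K, ∀ b ∈ K', a * b * a⁻¹ ∈ K') {m : ℕ} (hidx : K'.relIndex K = p ^ m) {a : A}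
    (ha : a ∈ K) (hc : (orderOf a).Coprime p) : a ∈ K' := by
  haveI : (K'.subgroupOf K).Normal := ⟨fun x hx g => hn g g.2 x hx⟩
  set q : K ⧸ K'.subgroupOf K := QuotientGroup.mk' (K'.subgroupOf K) ⟨a, ha⟩ with hq
  have h1 : q ^ orderOf a = 1 := by
    rw [hq, ← map_pow]
    exact (QuotientGroup.eq_one_iff _).mpr (by
      rw [Subgroup.mem_subgroupOf, Subgroup.coe_pow, pow_orderOf_eq_one]
      exact K'.one_mem)
  have h2 : orderOf q ∣ p ^ m := hidx ▸ (orderOf_dvd_natCard q)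
  have h3 : q = 1 := orderOf_eq_one_iff.mp (Nat.eq_one_of_dvd_coprimes
    (Nat.Coprime.pow_right m hc) (orderOf_dvd_of_pow_eq_one h1) h2)
  exact (QuotientGroup.eq_one_iff (⟨a, ha⟩ : K)).mp h3

/-- The step through a normal subgroup of index prime to `p`. -/
theorem Link.primeStep (h : Link F E p K U G) (hS : IsPGroup p S) (hE : E.IsWeaklyNormalIn F p)
    (hle : K' ≤ K) (hB : E.autGroup T ≤ K')
    (hn : ∀ a ∈ F.autGroup T, ∀ b ∈ K', a * b * a⁻¹ ∈ K')
    (hidx : (K'.relIndex K).Coprime p) : ∃ G' : FusionSystem U, Link F E p K' U G' := by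
  have hTS : T ≤ S := hE.2.2.2.1.1
  haveI := finite_of_le hTS
  haveI := finite_of_le h.le_S
  have hUp := h.pgroup hS
  have hW := h.base_wn hS hE
  have hTU : T ≤ U := hW.2.2.2.1.1
  have hKF : ∀ a ∈ K, a ∈ F.autGroup T := fun a ha =>
    PPower.autGroup_le_of_sub h.le hTU h.le_S (h.aut.symm ▸ ha)
  have hnK : ∀ a ∈ K, ∀ b ∈ K', a * b * a⁻¹ ∈ K' := fun a ha => hn a (hKF a ha)
  have hK : CharSub.IsKernel G E p K' :=
    { le := hle.trans h.aut.ge
      normal := fun a ha => hnK a (h.aut ▸ ha)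
      base := hB
      root := fun a ha k hk => root_mem hle hnK hidx (h.aut ▸ ha) hk }
  have hsites := CharSub.siteFam_sites (p := p) hUp hW
  have hforced := CharSub.forced_topGroup hUp hW hK
  have hcls := CharSub.isMapClass_psi hUp hW hK
  set G' := CharSub.charSystem hUp hW K'
  have hG's : G'.IsSaturated p := PrimeIndex.sub_saturated _ _ hUp h.sat hforced
  have hG'n : G'.IsNormalIn G p := PrimeIndex.sub_normal _ _ hUp h.sat hforced
    fun α hα δ hδ => CharSub.topGroup_normal hW.2.2.2.1 hK hα hδ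
  have hG'G : G'.IsSubsystemOf G := hG'n.1.2.2.1
  refine ⟨G', ⟨?_, hG's, sub_trans hG'G h.le, CharSub.le_charSystem hUp hW hK, ?_, ?_, ?_⟩⟩
  · rw [h.grp]
    refine le_antisymm (fun s ⟨hs, β, hβ, e⟩ => ⟨hs, β, ?_, e⟩) (kerSub_mono hle)
    obtain ⟨k, hk⟩ := isPGroup_autInducedBy hS T
      ⟨β, mem_autInducedBy.mpr ⟨s, hs, e⟩⟩
    refine root_mem hle hnK hidx hβ (k := k) ?_
    rw [show β ^ p ^ k = 1 by simpa using congrArg Subtype.val hk]
    exact K'.one_mem
  · refine le_antisymm (fun β hβ => ?_) fun β hβ => ?_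
    · obtain ⟨-, δ, ⟨-, b, hb, eb⟩, f₀, hf₀, hG, he⟩ :=
        (PrimeIndex.isMap_sub_iff _ _).mp ((isMap_autFun hTU).mpr hβ)
      obtain ⟨γ, hγ, φ, hφ, eφ⟩ :=
        hG _ (CharSub.isGenClass_psi hUp hW hK) T le_rfl (CharSub.centric_top hW.2.2)
      obtain ⟨φ', hφ', eφ'⟩ := hφ.exists_aut
        (Subgroup.eq_of_le_of_card_ge hφ.img_le hφ.card_img.ge)
      have : β = b * γ * φ' := eq_of_mul_inv_eq_one (eq_one_of_autFun fun t ht => by
        have key : ∀ x ∈ T, autFun β x = autFun (b * γ * φ') x := fun x hx => by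
          rw [he x hx, ← eb _ (by rw [eφ x hx]; exact autFun_mem γ (hφ.mem_S hx)), eφ x hx,
            autFun_mul _ _ hx, eφ' x hx, autFun_mul _ _ (hφ.mem_S hx)]
        rw [autFun_mul _ _ ht, key _ (autFun_mem _ ht), autFun_inv_apply _ ht])
      rw [this]
      exact K'.mul_mem (K'.mul_mem hb hγ) (hB hφ')
    · refine (isMap_autFun hTU).mp (CharSub.isMap_charSystem hUp hW hK (CharSub.centric_top hW.2.2)
        ((isMap_autFun hTU).mpr (h.aut.symm ▸ hle hβ)) fun R hR _ =>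
          ⟨β, hβ, id, isMap_id hR, fun _ _ => rfl⟩)
  · intro M hM β hβ hcop hR
    obtain ⟨hRc, hRm⟩ := hR
    have hMU : M ≤ U := hM.trans (h.grp ▸ sup_le_kerSub hE (hB.trans hle))
    have hm := (isMap_autFun hMU).mpr (h.rcond M hM β hβ hcop ⟨hRc, hRm⟩)
    obtain ⟨δ, hδ, f₀, hf₀, hG, he⟩ := PrimeIndex.factor (p := p) hUp h.sat hsites hm
    refine (isMap_autFun hMU).mp ((PrimeIndex.isMap_sub_iff CharSub.topGroup_le hsites).mpr
      ⟨hm, δ, ?_, f₀, hf₀, hG, he⟩)
    refine CharSub.mem_topGroup hUp hW hK hδ hRc (f := autFun β) (g := f₀) ?_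
      (hcls.mono M (M ⊓ T) f₀ hf₀ inf_le_left (hG _ (CharSub.isGenClass_psi hUp hW hK)))
      fun x hx => he x hx.1
    exact fun R hR' _ => ⟨1, K'.one_mem, autFun β, hRm.mono hR', fun x hx =>
      (autFun_one (hRm.mem_S (hR' hx))).symm⟩
  · intro V X hX hst
    have hXG := h.lim X hX hst
    exact le_normal hUp (wn_restrict hS hX h.sat h.le hXG) hst hG'n (le_of_sub hXG)

/-- The step through a normal subgroup of `p`-power index. -/
theorem Link.powerStep (h : Link F E p K U G) (hS : IsPGroup p S) (hE : E.IsWeaklyNormalIn F p)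
    (hle : K' ≤ K) (hB : E.autGroup T ≤ K')
    (hn : ∀ a ∈ F.autGroup T, ∀ b ∈ K', a * b * a⁻¹ ∈ K')
    {m : ℕ} (hidx : K'.relIndex K = p ^ m) :
    ∃ (U' : Subgroup Ω) (G' : FusionSystem U'), Link F E p K' U' G' := by
  have hTS : T ≤ S := hE.2.2.2.1.1
  haveI := finite_of_le hTS
  haveI := finite_of_le h.le_S
  have hUp := h.pgroup hS
  have hW := h.base_wn hS hE
  have hTU : T ≤ U := hW.2.2.2.1.1
  have hTp : IsPGroup p T := hS.of_injective _ (Subgroup.inclusion_injective hTS)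
  have hKF : ∀ a ∈ K, a ∈ F.autGroup T := fun a ha =>
    PPower.autGroup_le_of_sub h.le hTU h.le_S (h.aut.symm ▸ ha)
  have hnK : ∀ a ∈ K, ∀ b ∈ K', a * b * a⁻¹ ∈ K' := fun a ha => hn a (hKF a ha)
  have hcopK : ∀ a ∈ G.autGroup T, (orderOf a).Coprime p → a ∈ K' := fun a ha hc =>
    coprime_mem hle hnK hidx (h.aut ▸ ha) hc
  set U' := kerSub S T K'
  have hU'U : U' ≤ U := h.grp ▸ kerSub_mono hle
  have hTU' : T ≤ U' := le_sup_left.trans (sup_le_kerSub hE hB)
  have hhyp : G.hyperfocalSubgroup p ≤ U' := by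
    intro x hx
    obtain ⟨α, hα, eα⟩ := hyperfocal_action hUp h.sat hW.2.2.2.1 hx
    refine ⟨h.le_S (hyperfocalSubgroup_le G p hx), α, ?_, eα⟩
    have h1 : (pResidual p ↥(G.autGroup T)).map (G.autGroup T).subtype ≤ K' := by
      rw [Subgroup.map_le_iff_le_comap]
      refine (Subgroup.closure_le _).mpr fun a ha => ?_
      exact hcopK _ a.2 (by rw [Subgroup.subtype_apply, Subgroup.orderOf_coe]; exact ha)
    have h2 : Inn ↥T ≤ K' := by
      rintro _ ⟨t, rfl⟩
      exact hB ((isMap_autFun le_rfl).mp ((isMap_conj le_rfl t.2).congr fun y hy => by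
        rw [autFun_apply_mem _ hy]; rfl))
    exact sup_le h1 h2 hα
  obtain ⟨G', hG's, hG'i⟩ := PDeg.exists_system _ rfl hUp h.sat hU'U hhyp
  haveI := finite_of_le hU'U
  have hnU : ∀ s ∈ U, ∀ x ∈ U', s * x * s⁻¹ ∈ U' := by
    rintro s hs x ⟨hx, β, hβ, e⟩
    obtain ⟨hsS, γ, hγ, e'⟩ := h.grp ▸ hs
    refine ⟨S.mul_mem (S.mul_mem hsS hx) (S.inv_mem hsS), γ * β * γ⁻¹, hnK γ hγ β hβ, fun t => ?_⟩
    have e'' := e' (γ⁻¹ t)
    rw [MulAut.apply_inv_self] at e''
    rw [MulAut.mul_apply, MulAut.mul_apply, e', e, e'']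
    group
  have hG'n := PPower.normal_of_index hUp h.sat hU'U hnU hG's hG'i
  have hG'G := hG'n.1.2.2.1
  have hinv := hG'n.1.2.2
  have hTn : G'.IsFullyNormalized T := ⟨hTU', fun Q hQ => by
    obtain ⟨f, hf, rfl⟩ := isConj_iff.mp hQ
    rw [img_eq_of_apply hf le_rfl fun x hx =>
      stronglyClosed_apply hW.2.2.2.1 (CharSub.isMap_of_sub hG'G hf) hx hx]⟩
  refine ⟨U', G', ⟨rfl, hG's, sub_trans hG'G h.le,
    PPower.le_of_contains hUp hTU hE.1 h.base hinv hTU' hG'i, ?_, ?_, ?_⟩⟩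
  · refine le_antisymm (PPower.autGroup_le_of hUp hU'U hG's hTn ?_ fun β hβ hc =>
      hcopK β (PPower.autGroup_le_of_sub hG'G hTU' hU'U hβ) hc) fun k hk => ?_
    · intro β hβ
      obtain ⟨s, ⟨-, γ, hγ, e⟩, eβ⟩ := mem_autInducedBy.mp hβ
      rwa [show β = γ from MulEquiv.ext fun t => Subtype.ext ((eβ t).trans (e t).symm)]
    · set A := G'.autGroup T
      set P := autInducedBy U T
      have hGT : G.IsFullyNormalized T := ⟨hTU, fun Q hQ => by
        obtain ⟨f, hf, rfl⟩ := isConj_iff.mp hQ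
        rw [img_eq_of_apply hf le_rfl fun x hx => stronglyClosed_apply hW.2.2.2.1 hf hx hx]⟩
      have hall : G.autGroup T ≤ A ⊔ P := PPower.autGroup_le_of hUp le_rfl h.sat hGT le_sup_right
        fun β hβ hc => Subgroup.mem_sup_left (PPower.coprime_mem_autGroup hG'i hTU' hβ hc)
      have hPn : P ≤ Subgroup.normalizer (A : Set (MulAut T)) := fun g hg => by
        haveI : Finite (MulAut T) := Finite.of_injective (fun f : MulAut T => (f : T → T))
          DFunLike.coe_injective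
        exact mem_normalizer_of_maps_finite fun a ha =>
          PPower.conj_mem_autGroup hinv hTU' (autInducedBy_le hTU hg) ha
      have hk' : k ∈ ((A ⊔ P : Subgroup (MulAut T)) : Set (MulAut T)) :=
        hall (h.aut.symm ▸ hle hk)
      rw [Subgroup.coe_mul_of_right_le_normalizer_left A P hPn] at hk'
      obtain ⟨a, ha, b, hb, rfl⟩ := hk'
      refine A.mul_mem ha ?_
      have haK' : a ∈ K' := by
        refine PPower.autGroup_le_of (K := K') hUp hU'U hG's hTn ?_ (fun β hβ hc =>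
          hcopK β (PPower.autGroup_le_of_sub hG'G hTU' hU'U hβ) hc) ha
        intro β hβ
        obtain ⟨s, ⟨-, γ, hγ, e⟩, eβ⟩ := mem_autInducedBy.mp hβ
        rwa [show β = γ from MulEquiv.ext fun t => Subtype.ext ((eβ t).trans (e t).symm)]
      have hbK' : b ∈ K' := by simpa using K'.mul_mem (K'.inv_mem haK') hk
      obtain ⟨s, hs, eb⟩ := mem_autInducedBy.mp hb
      exact autInducedBy_le hTU' (mem_autInducedBy.mpr
        ⟨s, ⟨h.le_S hs, b, hbK', eb⟩, eb⟩)
  · exact fun M hM β hβ hcop hR => PPower.coprime_mem_autGroup hG'i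
      (hM.trans (sup_le_kerSub hE hB)) (h.rcond M hM β hβ hcop hR) hcop
  · intro V X hX hst
    have hXG := h.lim X hX hst
    refine le_normal hUp (wn_restrict hS hX h.sat h.le hXG) hst hG'n ?_
    calc V = X.hyperfocalSubgroup p := hst.1.symm
      _ ≤ G.hyperfocalSubgroup p := PPower.hyperfocal_le_of_sub hXG (le_of_sub hXG)
      _ ≤ U' := hhyp

/-- The elements acting on `T` within the automizer of the normal subsystem. -/
theorem kerSub_base (hS : IsPGroup p S) (hE : E.IsWeaklyNormalIn F p) :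
    kerSub S T (E.autGroup T) = T ⊔ centralizerIn S T := by
  refine le_antisymm ?_ (sup_le_kerSub hE le_rfl)
  have hTS : T ≤ S := hE.2.2.2.1.1
  haveI := finite_of_le hTS
  have hTp : IsPGroup p T := hS.of_injective _ (Subgroup.inclusion_injective hTS)
  have hTn : E.IsFullyNormalized T := ⟨le_rfl, fun Q hQ => by
    obtain ⟨f, hf, rfl⟩ := isConj_iff.mp hQ
    rw [Subgroup.eq_of_le_of_card_ge hf.img_le hf.card_img.ge]⟩
  obtain ⟨-, R, hR⟩ := (fullyNormalized_props hTp hE.1 hTn).2.1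
  rintro s ⟨hs, β, hβ, e⟩
  set L : Subgroup (E.autGroup T) := (autInducedBy S T).subgroupOf (E.autGroup T)
  have hL : IsPGroup p L :=
    (isPGroup_autInducedBy hS T).of_injective
      (((E.autGroup T).subtype.comp L.subtype).codRestrict _ fun x => x.2)
      fun a b hab => Subtype.ext (Subtype.ext (congrArg Subtype.val hab :))
  have hRL : (R : Subgroup (E.autGroup T)) ≤ L := by
    rw [hR]
    intro x hx
    obtain ⟨t, ht, et⟩ := mem_autInducedBy.mp (Subgroup.mem_subgroupOf.mp hx)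
    exact Subgroup.mem_subgroupOf.mpr (mem_autInducedBy.mpr ⟨t, hTS ht, et⟩)
  have hLR : L = (R : Subgroup (E.autGroup T)) := R.is_maximal' hL hRL
  have hmem : (⟨β, hβ⟩ : E.autGroup T) ∈ L :=
    Subgroup.mem_subgroupOf.mpr (mem_autInducedBy.mpr ⟨s, hs, e⟩)
  rw [hLR, hR] at hmem
  obtain ⟨t, ht, et⟩ := mem_autInducedBy.mp (Subgroup.mem_subgroupOf.mp hmem)
  have hts : t⁻¹ * s ∈ centralizerIn S T := by
    refine Fusion.mem_centralizerIn.mpr ⟨S.mul_mem (S.inv_mem (hTS ht)) hs, fun x hx => ?_⟩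
    have h1 := (e ⟨x, hx⟩).symm.trans (et ⟨x, hx⟩)
    calc t⁻¹ * s * x * (t⁻¹ * s)⁻¹ = t⁻¹ * (s * x * s⁻¹) * t := by group
      _ = t⁻¹ * (t * x * t⁻¹) * t := by rw [h1]
      _ = x := by group
  rw [show s = t * (t⁻¹ * s) by group]
  exact Subgroup.mul_mem_sup ht hts

/-- The bottom of the chain. -/
theorem exists_link_base (hS : IsPGroup p S) (hE : E.IsWeaklyNormalIn F p)
    [hn : ((E.autGroup T).subgroupOf (F.autGroup T)).Normal]
    (hsolv : IsPSolvable p (↥(F.autGroup T) ⧸ (E.autGroup T).subgroupOf (F.autGroup T))) :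
    ∃ G : FusionSystem (T ⊔ centralizerIn S T), Link F E p (E.autGroup T) _ G := by
  obtain ⟨n, H, h0, hl, hmono, hnor, hstep⟩ := hsolv
  let N := (E.autGroup T).subgroupOf (F.autGroup T)
  let K : Fin (n + 1) → Subgroup (MulAut T) := fun i =>
    ((H i).comap (QuotientGroup.mk' N)).map (F.autGroup T).subtype
  have hKle : ∀ i, K i ≤ F.autGroup T := fun i => Subgroup.map_subtype_le _
  have hKn : ∀ i, ∀ a ∈ F.autGroup T, ∀ b ∈ K i, a * b * a⁻¹ ∈ K i := by
    rintro i a ha _ ⟨b, hb, rfl⟩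
    exact ⟨⟨a, ha⟩ * b * ⟨a, ha⟩⁻¹, ((hnor i).comap _).conj_mem b hb _, rfl⟩
  have hKB : ∀ i, E.autGroup T ≤ K i := fun i b hb =>
    ⟨⟨b, autGroup_base_le hE hb⟩, by
      refine Subgroup.mem_comap.mpr ?_
      rw [show QuotientGroup.mk' N ⟨b, autGroup_base_le hE hb⟩ = 1 from
        (QuotientGroup.eq_one_iff _).mpr (Subgroup.mem_subgroupOf.mpr hb)]
      exact (H i).one_mem, rfl⟩
  have hKmono : ∀ i j, i ≤ j → K i ≤ K j := fun i j hij =>
    Subgroup.map_mono (Subgroup.comap_mono (hmono hij))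
  have hKidx : ∀ i j, (K i).relIndex (K j) = (H i).relIndex (H j) := fun i j => by
    show Subgroup.relIndex (Subgroup.map _ _) (Subgroup.map _ _) = _
    rw [Subgroup.relIndex_map_map_of_injective _ _ (F.autGroup T).subtype_injective,
      Subgroup.relIndex_comap,
      Subgroup.map_comap_eq_self_of_surjective (QuotientGroup.mk'_surjective N)]
  have main : ∀ i, ∃ (U : Subgroup Ω) (G : FusionSystem U), Link F E p (K i) U G := by
    intro i
    induction i using Fin.reverseInduction with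
    | last =>
      refine ⟨S, F, ?_⟩
      have : K (Fin.last n) = F.autGroup T := by
        show Subgroup.map _ _ = _
        rw [hl, Subgroup.comap_top, ← MonoidHom.range_eq_map, Subgroup.range_subtype]
      rw [this]
      exact link_top hS hE
    | cast i ih =>
      obtain ⟨U, G, h⟩ := ih
      have hle := hKmono _ _ i.castSucc_lt_succ.le
      rcases hstep i with ⟨m, hm⟩ | hc
      · exact h.powerStep hS hE hle (hKB _) (hKn _) ((hKidx _ _).trans hm)
      · obtain ⟨G', h'⟩ := h.primeStep hS hE hle (hKB _) (hKn _) (by rwa [hKidx])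
        exact ⟨U, G', h'⟩
  obtain ⟨U, G, h⟩ := main 0
  have hK0 : K 0 = E.autGroup T := by
    show Subgroup.map _ _ = _
    rw [h0, MonoidHom.comap_bot, QuotientGroup.ker_mk']
    exact Subgroup.map_subgroupOf_eq_of_le (autGroup_base_le hE)
  rw [hK0] at h
  obtain rfl : U = T ⊔ centralizerIn S T := h.grp.trans (kerSub_base hS hE)
  exact ⟨G, h⟩

end Cfsg.Lib.Fusion.ResLim
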