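import Cfsg.Agent.Fusion.Residual.Normal
import Cfsg.Agent.Fusion.NormalExt.GoodExt
import Cfsg.Agent.Fusion.NormalCentralizer.Commutator

/-!
When the centralizer of the normal subsystem lies in its top, the hyperfocal subgroup of the bottom
member of the chain lies in the top of the normal subsystem.
-/

set_option autoImplicit false
set_option linter.unusedSectionVars false
set_option linter.style.haveILetI false
set_option maxHeartbeats 2000000

namespace Cfsg.Lib.Fusion.ResLim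

open Cfsg Cfsg.FusionSystem Cfsg.Lib.Fusion
open scoped commutatorElement

variable {Ω : Type*} [Group Ω] {S T : Subgroup Ω} {F : FusionSystem S} {E : FusionSystem T}
  {p : ℕ} {G : FusionSystem (T ⊔ centralizerIn S T)}

/-- The automorphisms of `D` moving elements only within their cosets of `T`. -/
def shiftSub (D T : Subgroup Ω) : Subgroup (MulAut D) where
  carrier := {α | ∀ x : D, (x : Ω)⁻¹ * (α x : D) ∈ T}
  one_mem' x := by simp [T.one_mem]
  mul_mem' := fun {a b} ha hb x => by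
    have := T.mul_mem (hb x) (ha (b x))
    rwa [mul_assoc, mul_inv_cancel_left] at this
  inv_mem' := fun {a} ha x => by
    have := T.inv_mem (ha (a⁻¹ x))
    rwa [MulAut.apply_inv_self, mul_inv_rev, inv_inv] at this

theorem mem_shiftSub {D : Subgroup Ω} {α : MulAut D} :
    α ∈ shiftSub D T ↔ ∀ x ∈ D, x⁻¹ * autFun α x ∈ T := by
  refine ⟨fun h x hx => ?_, fun h x => ?_⟩
  · rw [autFun_apply_mem α hx]; exact h ⟨x, hx⟩
  · rw [← autFun_apply]; exact h x x.2

variable [Finite S] [Fact p.Prime]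

/-- A normal `p`-subgroup of the automizer is induced by the Sylow group. -/
theorem opAut_le_autInduced {S' : Subgroup Ω} {F' : FusionSystem S'} [Finite S']
    (hS' : IsPGroup p S') (hF' : F'.IsSaturated p) {Q : Subgroup Ω}
    (hQ : F'.IsFullyNormalized Q) : Criterion.opAut F' p Q ≤ autInducedBy S' Q := by
  haveI := finite_of_le hQ.1
  haveI : Finite (MulAut Q) := Finite.of_injective (fun f : MulAut Q => (f : Q → Q))
    DFunLike.coe_injective
  obtain ⟨-, ⟨-, R₀, hR₀⟩, -⟩ := fullyNormalized_props hS' hF' hQ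
  rintro _ ⟨c, hc, rfl⟩
  haveI := Cfsg.Lib.Components.pCore_normal' (G := F'.autGroup Q) p
  obtain ⟨u, hu⟩ := exists_conj_le_sylow R₀
    (Cfsg.Lib.Components.isPGroup_pCore (G := F'.autGroup Q) p)
  have h2 := hu (u⁻¹ * c * u) (by
    simpa using Subgroup.Normal.conj_mem inferInstance c hc u⁻¹)
  rw [show u * (u⁻¹ * c * u) * u⁻¹ = c by group, hR₀] at h2
  exact h2

/-- Conjugations inside `T C_S(T)` move elements within cosets of `T`. -/
theorem conjAut_mem_shift (hab : ⁅T ⊔ centralizerIn S T, T ⊔ centralizerIn S T⁆ ≤ T)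
    {D : Subgroup Ω} (hD : D ≤ T ⊔ centralizerIn S T) {x : Ω} (hx : x ∈ T ⊔ centralizerIn S T)
    (hn : x ∈ Subgroup.normalizer (D : Set Ω)) : conjAut D x hn ∈ shiftSub D T := fun d => by
  rw [conjAut_apply]
  have := hab (Subgroup.commutator_mem_commutator (Subgroup.inv_mem _ (hD d.2)) hx)
  rw [commutatorElement_def, inv_inv] at this
  simpa [mul_assoc] using this

variable (hS : IsPGroup p S) (hE : E.IsNormalIn F p)
  (h : Link F E p (E.autGroup T) (T ⊔ centralizerIn S T) G)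
  (hab : ⁅T ⊔ centralizerIn S T, T ⊔ centralizerIn S T⁆ ≤ T)
  (hY : ∀ Y : Subgroup Ω, NormCent.Adm F E Y → Y ≤ T)
include hS hE h hab hY

/-- An automorphism fixing the meet with `T` and moving only inside cosets of `T` permutes the
induced automorphisms. -/
theorem conj_conjAut_mem {D : Subgroup Ω} (hD : G.IsFullyNormalized D) {γ : MulAut D}
    (hγ : γ ∈ G.autGroup D) (hfix : ∀ r ∈ D ⊓ T, autFun γ r = r) {x : Ω}
    (hx : x ∈ T ⊔ centralizerIn S T) (hn : x ∈ Subgroup.normalizer (D : Set Ω)) :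
    γ * conjAut D x hn * γ⁻¹ ∈ autInducedBy (T ⊔ centralizerIn S T) D := by
  have hsc := (h.base_wn hS hE.1).2.2.2.1
  have hS₀p := h.pgroup hS
  haveI := finite_of_le h.le_S
  haveI := finite_of_le hD.1
  have hm := (isMap_autFun hD.1).mpr hγ
  set c := conjAut D x hn
  have hc : c ∈ G.autGroup D := autInducedBy_le hD.1 (conjAut_mem_autInducedBy hn hx)
  have hcm := (isMap_autFun hD.1).mpr hc
  have hcs : c ∈ shiftSub D T := conjAut_mem_shift hab hD.1 hx hn
  have hci : ∀ r ∈ D ⊓ T, autFun c⁻¹ r ∈ D ⊓ T := fun r hr =>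
    ⟨autFun_mem _ hr.1, stronglyClosed_apply hsc
      ((isMap_autFun hD.1).mpr (Subgroup.inv_mem _ hc)) hr.1 hr.2⟩
  have hfix' : ∀ r ∈ D ⊓ T, autFun γ⁻¹ r = r := fun r hr => by
    conv_lhs => rw [← hfix r hr]
    exact autFun_inv_apply' γ hr.1
  have hconj : γ * c * γ⁻¹ ∈ shiftSub D T := mem_shiftSub.mpr fun d hd => by
    set e := autFun γ⁻¹ d
    have he : e ∈ D := autFun_mem _ hd
    have hu : e⁻¹ * autFun c e ∈ D ⊓ T :=
      ⟨D.mul_mem (D.inv_mem he) (autFun_mem _ he), mem_shiftSub.mp hcs e he⟩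
    rw [autFun_mul _ _ hd, autFun_mul _ _ (autFun_mem _ hd)]
    have h1 := hfix _ hu
    rw [hm.map_mul (D.inv_mem he) (autFun_mem _ he), hm.map_inv he, autFun_inv_apply γ hd] at h1
    exact h1.symm ▸ hu.2
  have hδ : γ * c * γ⁻¹ * c⁻¹ ∈ Small.chainAut G D (D ⊓ T) inf_le_left := by
    refine ⟨Subgroup.mul_mem _ (Subgroup.mul_mem _ (Subgroup.mul_mem _ hγ hc)
      (Subgroup.inv_mem _ hγ)) (Subgroup.inv_mem _ hc), fun r hr => ?_, fun d hd => ?_⟩
    · rw [autFun_mul _ _ hr.1, autFun_mul _ _ (autFun_mem _ hr.1), hfix' _ (hci r hr),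
        autFun_mul _ _ (hci r hr).1, autFun_inv_apply c hr.1, hfix r hr]
    · set a := autFun (γ * c * γ⁻¹ * c⁻¹) d
      have ha : d⁻¹ * a ∈ T :=
        mem_shiftSub.mp (Subgroup.mul_mem _ hconj (Subgroup.inv_mem _ hcs)) d hd
      refine ⟨D.mul_mem (autFun_mem _ hd) (D.inv_mem hd), ?_⟩
      have h1 := conj_mem_of_mem_normalizer (normalizes_of_stronglyClosed hsc (hD.1 hd)) ha
      rwa [show d * (d⁻¹ * a) * d⁻¹ = a * d⁻¹ by group] at h1
  have hchain : Small.chainAut G D (D ⊓ T) inf_le_left ≤ autInducedBy (T ⊔ centralizerIn S T) D := by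
    refine le_trans (Criterion.le_opAut (p := p) (fun _ h => h.1)
      (Small.isPGroup_chainAut hS₀p inf_le_left hD.1) fun α hα β hβ => ?_)
      (opAut_le_autInduced hS₀p h.sat hD)
    refine Small.conj_chainAut inf_le_left hD.1 ⟨hα, fun z hz => ?_, fun z hz => ?_⟩ hβ <;>
      exact ⟨autFun_mem _ hz.1, stronglyClosed_apply hsc ((isMap_autFun hD.1).mpr hα) hz.1 hz.2⟩
  have h2 := Subgroup.mul_mem _ (hchain hδ) (conjAut_mem_autInducedBy (K := T ⊔ centralizerIn S T) hn hx)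
  rwa [show γ * c * γ⁻¹ * c⁻¹ * c = γ * c * γ⁻¹ by group] at h2

/-- Automorphisms of order prime to `p` fixing a centric meet with `T` move within cosets of `T`. -/
theorem shift_of_fix : ∀ (n : ℕ) (D : Subgroup Ω), Nat.card T - Nat.card (D ⊓ T : Subgroup Ω) ≤ n →
    D ≤ T ⊔ centralizerIn S T → E.IsCentric (D ⊓ T) → ∀ γ ∈ G.autGroup D,
      (orderOf γ).Coprime p → (∀ r ∈ D ⊓ T, autFun γ r = r) → γ ∈ shiftSub D T := by
  obtain ⟨hEs, hF, hinv⟩ := hE.1
  have hTS : T ≤ S := hinv.2.1.1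
  have hW := h.base_wn hS hE.1
  have hsc := hW.2.2.2.1
  have hS₀p := h.pgroup hS
  haveI := finite_of_le hTS
  haveI := finite_of_le h.le_S
  have hnT : ∀ s ∈ T ⊔ centralizerIn S T, s ∈ Subgroup.normalizer (T : Set Ω) :=
    fun s hs => normalizes_of_stronglyClosed hsc hs
  intro n
  induction n using Nat.strong_induction_on with
  | _ n ih =>
  intro D₀ hn hD₀ hc₀ γ₀ hγ₀ hcop₀ hfix₀
  haveI := finite_of_le hD₀
  obtain ⟨D, hcon, hDn⟩ := exists_fullyNormalized (F := G) hD₀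
  obtain ⟨k, hk, hki⟩ := isConj_iff.mp hcon
  set γ := MulAut.congr (hk.equiv hki) γ₀ with hγdef
  have hγ : γ ∈ G.autGroup D := congr_mem_autGroup hk hki hγ₀
  have hcop : (orderOf γ).Coprime p := by rwa [hγdef, MulEquiv.orderOf_eq]
  have hmeet : img (D₀ ⊓ T) k = D ⊓ T := by rw [img_inf_stronglyClosed hsc hk, hki]
  have hc : E.IsCentric (D ⊓ T) := by
    rw [← hmeet]; exact CharSub.centricT_img hW.2.2 hc₀ (hk.mono inf_le_left)
  have hfix : ∀ r ∈ D ⊓ T, autFun γ r = r := fun r hr => by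
    obtain ⟨z, hz, rfl⟩ := (hk.mono (inf_le_left : D₀ ⊓ T ≤ D₀)).mem_img.mp (hmeet.symm ▸ hr)
    rw [congr_equiv_spec hk hki γ₀ hz.1, hfix₀ z hz]
  suffices hmain : γ ∈ shiftSub D T by
    refine mem_shiftSub.mpr fun d hd => mem_of_apply_mem_stronglyClosed hsc hk
      (D₀.mul_mem (D₀.inv_mem hd) (autFun_mem _ hd)) ?_
    rw [hk.map_mul (D₀.inv_mem hd) (autFun_mem _ hd), hk.map_inv hd,
      ← congr_equiv_spec hk hki γ₀ hd]
    exact mem_shiftSub.mp hmain _ (hki ▸ IsMap.apply_mem_img hd)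
  have hDS₀ := hDn.1
  haveI := finite_of_le hDS₀
  obtain ⟨-, -, hrec⟩ := fullyNormalized_props hS₀p h.sat hDn
  have hm := (isMap_autFun hDS₀).mpr hγ
  obtain ⟨f, hf, ef⟩ := receptive_extend hrec hm (img_autFun γ)
  have hext : ∀ x ∈ T ⊔ centralizerIn S T, ∀ hn : x ∈ Subgroup.normalizer (D : Set Ω),
      x ∈ extSub (T ⊔ centralizerIn S T) D (autFun γ) := fun x hx hn => by
    obtain ⟨s, hs, es⟩ := mem_autInducedBy.mp (conj_conjAut_mem hS hE h hab hY hDn hγ hfix hx hn)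
    refine mem_extSub.mpr ⟨hx, hn, s, hs, fun y hy => ?_⟩
    have h1 := es ⟨autFun γ y, autFun_mem γ hy⟩
    rw [← autFun_apply, autFun_mul _ _ (autFun_mem γ hy), autFun_inv_apply' γ hy,
      autFun_mul _ _ hy, autFun_apply_mem (conjAut D x hn) hy, conjAut_apply] at h1
    exact h1
  by_cases hTD : T ≤ D
  · -- the base
    have hnD : ∀ s ∈ T ⊔ centralizerIn S T, s ∈ Subgroup.normalizer (D : Set Ω) := fun s hs =>
      mem_normalizer_of_maps_finite fun d hd => by
        have h1 := hab (Subgroup.commutator_mem_commutator (Subgroup.inv_mem _ (hDS₀ hd)) hs)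
        rw [commutatorElement_def, inv_inv] at h1
        have h2 := D.mul_mem hd (hTD h1)
        rwa [show d * (d⁻¹ * s * d * s⁻¹) = s * d * s⁻¹ by group] at h2
    have hall : T ⊔ centralizerIn S T ≤ extSub (T ⊔ centralizerIn S T) D (autFun γ) :=
      fun x hx => hext x hx (hnD x hx)
    have hfT : ∀ t ∈ T, f t = t := fun t ht => by rw [ef t (hTD ht)]; exact hfix t ⟨hTD ht, ht⟩
    have hfC : ∀ c ∈ centralizerIn S T, f c ∈ centralizerIn S T := fun c hc' => by
      have hcx := hall (Subgroup.mem_sup_right hc')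
      refine Fusion.mem_centralizerIn.mpr ⟨h.le_S (hf.mem_S hcx), fun t ht => ?_⟩
      conv_lhs => rw [← hfT t ht]
      rw [← hf.map_conj hcx (hall (Subgroup.mem_sup_left ht)),
        (Fusion.mem_centralizerIn.mp hc').2 t ht, hfT t ht]
    refine mem_shiftSub.mpr fun d hd => ?_
    obtain ⟨t, ht, c, hc', rfl⟩ := NormCent.mem_sup_centralizerIn.mp (hDS₀ hd)
    have hadm := NormCent.adm_commutator hS hE le_rfl hfC
      ⟨f, (CharSub.isMap_of_sub h.le hf).mono
        ((sup_comm _ _).trans_le hall), fun _ _ => rfl, hfT⟩ hc'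
    have h1 := hY _ hadm (Subgroup.mem_zpowers _)
    rw [← ef _ hd, hf.map_mul (hall (Subgroup.mem_sup_left ht)) (hall (Subgroup.mem_sup_right hc')),
      hfT t ht]
    rwa [show (t * c)⁻¹ * (t * f c) = c⁻¹ * f c by group]
  -- the step
  set T₁ := T ⊓ Subgroup.normalizer (D : Set Ω)
  have hnot : ¬ T₁ ≤ D := by
    intro hle
    have hlt : D < T ⊔ D := lt_of_le_of_ne le_sup_right fun e => hTD (e.symm ▸ le_sup_left)
    obtain ⟨v, hv, hvD⟩ := SetLike.exists_of_lt
      (lt_inf_normalizer hS₀p hlt (sup_le le_sup_left hDS₀))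
    have hv1 : v ∈ ((T ⊔ D : Subgroup Ω) : Set Ω) := hv.1
    rw [Subgroup.coe_mul_of_right_le_normalizer_left T D (fun d hd => hnT d (hDS₀ hd))] at hv1
    obtain ⟨t, ht, d, hd, rfl⟩ := hv1
    have htn : t ∈ Subgroup.normalizer (D : Set Ω) := by
      have := Subgroup.mul_mem _ hv.2 (Subgroup.inv_mem _ (Subgroup.le_normalizer hd))
      rwa [mul_inv_cancel_right] at this
    exact hvD (D.mul_mem (hle ⟨ht, htn⟩) hd)
  set D₁ := D ⊔ T₁
  have hD₁S₀ : D₁ ≤ T ⊔ centralizerIn S T := sup_le hDS₀ (inf_le_left.trans le_sup_left)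
  haveI := finite_of_le hD₁S₀
  have hD₁e : D₁ ≤ extSub (T ⊔ centralizerIn S T) D (autFun γ) :=
    sup_le (le_extSub hm) fun x hx => hext x (Subgroup.mem_sup_left hx.1) hx.2
  have hf₁ := hf.mono hD₁e
  have hfD : ∀ d ∈ D, f d ∈ D := fun d hd => by rw [ef d hd]; exact autFun_mem γ hd
  have hDD₁ : D ≤ D₁ := le_sup_left
  have hfT₁ : ∀ x ∈ T₁, f x ∈ T₁ := fun x hx => by
    have hx₁ : x ∈ D₁ := Subgroup.mem_sup_right hx
    refine ⟨stronglyClosed_apply hsc hf₁ hx₁ hx.1, ?_⟩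
    have hi : img D f = D := img_eq_of_apply hf₁ hDD₁ hfD
    have h2 := (hf₁.mem_normalizerIn hDD₁ hx₁ hx.2).2
    rwa [hi] at h2
  have hfD₁ : img D₁ f = D₁ := by
    refine img_eq_of_apply hf₁ le_rfl fun x hx => ?_
    have hn1 : T₁ ≤ Subgroup.normalizer (D : Set Ω) := inf_le_right
    have hx1 : x ∈ ((D ⊔ T₁ : Subgroup Ω) : Set Ω) := hx
    rw [Subgroup.coe_mul_of_right_le_normalizer_left D T₁ hn1] at hx1
    obtain ⟨d, hd, t, ht, rfl⟩ := hx1
    rw [hf₁.map_mul (hDD₁ hd) (Subgroup.mem_sup_right ht)]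
    exact Subgroup.mul_mem_sup (hfD d hd) (hfT₁ t ht)
  obtain ⟨δ, hδ, eδ⟩ := hf₁.exists_aut hfD₁
  obtain ⟨e, hecop, heγ⟩ := exists_coprime_power δ hcop
  have hpow : ∀ i : ℕ, ∀ d ∈ D, autFun (δ ^ i) d = autFun (γ ^ i) d := by
    intro i
    induction i with
    | zero => exact fun d hd => by rw [pow_zero, pow_zero, autFun_one (hDD₁ hd), autFun_one hd]
    | succ i ih2 =>
      intro d hd
      rw [pow_succ, pow_succ, autFun_mul _ _ (hDD₁ hd), autFun_mul _ _ hd, eδ d (hDD₁ hd),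
        ef d hd, ih2 _ (autFun_mem γ hd)]
  set ε := δ ^ e
  have hε : ε ∈ G.autGroup D₁ := Subgroup.pow_mem _ hδ _
  have hεD : ∀ d ∈ D, autFun ε d = autFun γ d := fun d hd => by rw [hpow e d hd, heγ]
  have hεm := (isMap_autFun hD₁S₀).mpr hε
  have hR₁ : D₁ ⊓ T = T₁ := by
    refine le_antisymm (fun x hx => ⟨hx.2, ?_⟩) (le_inf le_sup_right inf_le_left)
    exact (sup_le Subgroup.le_normalizer inf_le_right : D₁ ≤ Subgroup.normalizer (D : Set Ω)) hx.1
  have hRT₁ : D ⊓ T ≤ T₁ := fun x hx => ⟨hx.2, Subgroup.le_normalizer hx.1⟩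
  have hfix₁ : ∀ x ∈ D₁ ⊓ T, autFun ε x = x := by
    intro x hx
    rw [hR₁] at hx
    have hx₁ : x ∈ D₁ := Subgroup.mem_sup_right hx
    have hεr : ∀ r ∈ D ⊓ T, autFun ε r = r := fun r hr => by rw [hεD r hr.1, hfix r hr]
    set z := x⁻¹ * autFun ε x
    have hzT : z ∈ T := T.mul_mem (T.inv_mem hx.1) (stronglyClosed_apply hsc hεm hx₁ hx.1)
    have hzc : z ∈ centralizerIn T (D ⊓ T) := Fusion.mem_centralizerIn.mpr ⟨hzT, fun r hr => by
      have hr' : x * r * x⁻¹ ∈ D ⊓ T :=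
        ⟨conj_mem_of_mem_normalizer hx.2 hr.1, T.mul_mem (T.mul_mem hx.1 hr.2) (T.inv_mem hx.1)⟩
      have h1 := hεr _ hr'
      rw [hεm.map_conj hx₁ (hDD₁ hr.1), hεr r hr] at h1
      calc z * r * z⁻¹ = x⁻¹ * (autFun ε x * r * (autFun ε x)⁻¹) * x := by simp only [z]; group
        _ = r := by rw [h1]; group⟩
    have hzR : z ∈ D ⊓ T := hc.2 _ (isConj_refl hc.1) hzc
    have hz1 : z ∈ D₁ := hDD₁ hzR.1
    have hfz := hεr z hzR
    have hp : ∀ i : ℕ, autFun (ε ^ i) x = x * z ^ i := by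
      intro i
      induction i with
      | zero => rw [pow_zero, autFun_one hx₁, pow_zero, mul_one]
      | succ i ih2 =>
        rw [pow_succ', autFun_mul _ _ hx₁, ih2, hεm.map_mul hx₁ (D₁.pow_mem hz1 i),
          hεm.map_pow hz1, hfz, pow_succ', ← mul_assoc]
        simp only [z, mul_inv_cancel_left]
    have h1 := hp (orderOf ε)
    rw [pow_orderOf_eq_one, autFun_one hx₁] at h1
    obtain ⟨j, hj⟩ := NormCent.exists_pow_eq_one hS (hTS hzT)
    have hz0 : z = 1 := Subgroup.mem_bot.mp (NormCent.mem_of_pow_mem_coprime hj hecop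
      (Subgroup.mem_bot.mpr (mul_left_cancel (by rw [mul_one]; exact h1.symm))))
    exact (inv_mul_eq_one.mp hz0).symm
  have hlt : Nat.card (D ⊓ T : Subgroup Ω) < Nat.card (D₁ ⊓ T : Subgroup Ω) := by
    haveI := finite_of_le (inf_le_left.trans hTS : T₁ ≤ S)
    rw [hR₁]
    exact lt_of_le_of_ne (Subgroup.card_le_of_le hRT₁) fun e =>
      hnot ((Subgroup.eq_of_le_of_card_ge hRT₁ e.ge).symm.le.trans inf_le_left)
  have hc₁ : E.IsCentric (D₁ ⊓ T) := centric_of_le hc (hR₁.symm ▸ hRT₁) inf_le_right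
  have hle : Nat.card (D₁ ⊓ T : Subgroup Ω) ≤ Nat.card T := Subgroup.card_le_of_le inf_le_right
  have hcard : Nat.card (D ⊓ T : Subgroup Ω) = Nat.card (D₀ ⊓ T : Subgroup Ω) := by
    rw [← hmeet]; exact (hk.mono (inf_le_left : D₀ ⊓ T ≤ D₀)).card_img
  have hres := ih (Nat.card T - Nat.card (D₁ ⊓ T : Subgroup Ω)) (by omega) D₁ le_rfl hD₁S₀ hc₁ ε hε
    hecop hfix₁
  exact mem_shiftSub.mpr fun d hd => by
    rw [← hεD d hd]; exact mem_shiftSub.mp hres d (hDD₁ hd)

/-- At a fully normalized subgroup containing `C_S(T)` all automorphisms move within cosets of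
`T`. -/
theorem shift_site {Q : Subgroup Ω} (hQn : G.IsFullyNormalized Q)
    (hCQ : centralizerIn S T ≤ Q) (hQc : E.IsCentric (Q ⊓ T)) :
    G.autGroup Q ≤ shiftSub Q T := by
  obtain ⟨hEs, hF, hinv⟩ := hE.1
  have hTS : T ≤ S := hinv.2.1.1
  have hW := h.base_wn hS hE.1
  have hsc := hW.2.2.2.1
  have hS₀p := h.pgroup hS
  haveI := finite_of_le h.le_S
  have hQ := hQn.1
  haveI := finite_of_le hQ
  haveI := finite_of_le hTS
  haveI : Finite (MulAut Q) := Finite.of_injective (fun f : MulAut Q => (f : Q → Q))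
    DFunLike.coe_injective
  set R := Q ⊓ T
  have hinner : ∀ α ∈ autInducedBy (T ⊔ centralizerIn S T) Q, α ∈ shiftSub Q T := by
    intro α hα
    obtain ⟨s, hs, es⟩ := mem_autInducedBy.mp hα
    intro d
    rw [es]
    have := hab (Subgroup.commutator_mem_commutator (Subgroup.inv_mem _ (hQ d.2)) hs)
    rw [commutatorElement_def, inv_inv] at this
    simpa [mul_assoc] using this
  let X := G.autGroup Q
  let Γ : Subgroup X :=
    { carrier := {a | ∀ r ∈ R, autFun (a : MulAut Q) r = r}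
      one_mem' := fun r hr => by rw [Subgroup.coe_one, autFun_one hr.1]
      mul_mem' := fun {a b} ha hb r hr => by
        rw [Subgroup.coe_mul, autFun_mul _ _ hr.1, hb r hr, ha r hr]
      inv_mem' := fun {a} ha r hr => by
        conv_lhs => rw [← ha r hr]
        rw [Subgroup.coe_inv]
        exact autFun_inv_apply' _ hr.1 }
  haveI hΓn : Γ.Normal := ⟨fun n hn g r hr => by
    have hgi : autFun ((g : MulAut Q)⁻¹) r ∈ R := ⟨autFun_mem _ hr.1, stronglyClosed_apply hsc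
      ((isMap_autFun hQ).mpr (Subgroup.inv_mem _ g.2)) hr.1 hr.2⟩
    rw [Subgroup.coe_mul, Subgroup.coe_mul, Subgroup.coe_inv, autFun_mul _ _ hr.1,
      autFun_mul _ _ (autFun_mem _ hr.1), hn _ hgi]
    exact autFun_inv_apply _ hr.1⟩
  obtain ⟨-, ⟨-, R₀, hR₀⟩, -⟩ := fullyNormalized_props hS₀p h.sat hQn
  have hΓ : ∀ a ∈ Γ, (a : MulAut Q) ∈ shiftSub Q T := by
    obtain ⟨P, hP⟩ := (sylow_subgroupOf_iff inf_le_right
      (isMaxPIn_inf_normal R₀ Γ).2.1).mpr (isMaxPIn_inf_normal R₀ Γ)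
    have htop : (((shiftSub Q T).subgroupOf X).subgroupOf Γ) = ⊤ := by
      refine NormCent.eq_top_of_coprime_mem _ P (fun y hy => ?_) fun y hy => ?_
      · rw [hP] at hy
        have h1 := (Subgroup.mem_subgroupOf.mp hy).1
        rw [hR₀] at h1
        exact hinner _ (Subgroup.mem_subgroupOf.mp h1)
      · refine shift_of_fix hS hE h hab hY _ Q le_rfl hQ hQc _ (y : X).2 ?_ y.2
        simpa only [Subgroup.subtype_apply, Subgroup.orderOf_coe] using hy
    exact fun a ha => htop.ge (Subgroup.mem_top ⟨a, ha⟩)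
  refine PPower.autGroup_le_of hS₀p le_rfl h.sat hQn hinner fun β hβ hcop => ?_
  -- the extension of the restriction to the meet
  have hRQ : R ≤ Q := inf_le_left
  haveI := finite_of_le (hRQ.trans hQ)
  have hbm := (isMap_autFun hQ).mpr hβ
  have hbR := hbm.mono hRQ
  have hRi : img R (autFun β) = R := by
    show img (Q ⊓ T) _ = _
    rw [img_inf_stronglyClosed hsc hbm, img_autFun]
  obtain ⟨μ, -, eμ⟩ := hbR.exists_aut hRi
  have hμE : μ ∈ E.autGroup R := (isMap_autFun inf_le_right).mp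
    ((isMap_base hS hE.1 h hbR inf_le_right).congr eμ)
  obtain ⟨g, hg, eg, hgc⟩ := NExt.goodExt hS hE hQc μ hμE
  have hQR : Q ≤ R ⊔ centralizerIn S R := fun x hx => by
    obtain ⟨t, ht, c, hc, rfl⟩ := NormCent.mem_sup_centralizerIn.mp (hQ hx)
    refine Subgroup.mul_mem_sup ⟨?_, ht⟩ (Fusion.mem_centralizerIn.mpr
      ⟨(Fusion.mem_centralizerIn.mp hc).1, fun r hr => (Fusion.mem_centralizerIn.mp hc).2 r hr.2⟩)
    have := Q.mul_mem hx (Q.inv_mem (hCQ hc))
    rwa [mul_inv_cancel_right] at this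
  have hgQ := hg.mono hQR
  have hgshift : ∀ x ∈ Q, x⁻¹ * g x ∈ R := fun x hx => by
    obtain ⟨a, ha, c, hc, rfl⟩ := NormCent.mem_sup_centralizerIn.mp (hQR hx)
    rw [hg.map_mul (Subgroup.mem_sup_left ha) (Subgroup.mem_sup_right hc), eg a ha]
    have h1 : a⁻¹ * autFun μ a ∈ R := R.mul_mem (R.inv_mem ha) (autFun_mem μ ha)
    have hcn := (Fusion.mem_centralizerIn.mp hc).2 _ h1
    have : (a * c)⁻¹ * (autFun μ a * g c) = (a⁻¹ * autFun μ a) * (c⁻¹ * g c) := by
      calc (a * c)⁻¹ * (autFun μ a * g c) = c⁻¹ * (a⁻¹ * autFun μ a) * g c := by group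
        _ = c⁻¹ * (c * (a⁻¹ * autFun μ a) * c⁻¹) * g c := by rw [hcn]
        _ = _ := by group
    rw [this]
    exact R.mul_mem h1 (hgc c hc)
  have hgi : img Q g = Q := img_eq_of_apply hgQ le_rfl fun x hx => by
    have := Q.mul_mem hx (hRQ (hgshift x hx))
    rwa [mul_inv_cancel_left] at this
  obtain ⟨g', hg', eg'⟩ := hgQ.exists_aut hgi
  have hg's : g' ∈ shiftSub Q T := mem_shiftSub.mpr fun x hx => by
    rw [eg' x hx]; exact (hgshift x hx).2
  obtain ⟨e, hecop, hβe⟩ := exists_coprime_power g' hcop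
  have hpow : ∀ i : ℕ, ∀ r ∈ R, autFun (g' ^ i) r = autFun (β ^ i) r := by
    intro i
    induction i with
    | zero => exact fun r hr => by rw [pow_zero, pow_zero]
    | succ i ih =>
      intro r hr
      rw [pow_succ, pow_succ, autFun_mul _ _ hr.1, autFun_mul _ _ hr.1, eg' r hr.1, eg r hr,
        eμ r hr, ih]
      exact hRi.le (IsMap.apply_mem_img hr)
  have hqR : ∀ r ∈ R, autFun (g' ^ e) r = autFun β r := fun r hr => by rw [hpow e r hr, hβe]
  have hqG : g' ^ e ∈ G.autGroup Q := h.rcond Q hQ _ (Subgroup.pow_mem _ hg' _) hecop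
    ⟨hQc, (isMap_base hS hE.1 h hbR inf_le_right).congr hqR⟩
  have hmem : (⟨g' ^ e, hqG⟩⁻¹ * ⟨β, hβ⟩ : X) ∈ Γ := fun r hr => by
    rw [Subgroup.coe_mul, Subgroup.coe_inv, autFun_mul _ _ hr.1, ← hqR r hr]
    exact autFun_inv_apply' _ hr.1
  have := Subgroup.mul_mem _ (Subgroup.pow_mem _ hg's e) (hΓ _ hmem)
  simpa using this

/-- The hyperfocal subgroup of the bottom member lies in `T`. -/
theorem hyperfocal_le : G.hyperfocalSubgroup p ≤ T := by
  obtain ⟨hEs, hF, hinv⟩ := hE.1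
  have hW := h.base_wn hS hE.1
  have hsc := hW.2.2.2.1
  have hS₀p := h.pgroup hS
  haveI := finite_of_le h.le_S
  let Φ : Subgroup Ω → (Ω → Ω) → Prop := fun P f => ∀ x ∈ P, x⁻¹ * f x ∈ T
  have hcls : IsMapClass G Φ :=
    { conj := fun P g hP hg x hx => by
        have := hab (Subgroup.commutator_mem_commutator (Subgroup.inv_mem _ (hP hx)) hg)
        rw [commutatorElement_def, inv_inv] at this
        simpa [mul_assoc] using this
      congr := fun P f f' _ e h x hx => by rw [e x hx]; exact h x hx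
      mono := fun P R f _ hR h x hx => h x (hR hx)
      comp := fun P Q f g _ _ hfQ h h' x hx => by
        show x⁻¹ * g (f x) ∈ T
        rw [show x⁻¹ * g (f x) = x⁻¹ * f x * ((f x)⁻¹ * g (f x)) by group]
        exact T.mul_mem (h x hx) (h' _ (hfQ x hx))
      inv := fun P f g hf hg hl h y hy => by
        obtain ⟨x, hx, rfl⟩ := hf.mem_img.mp hy
        rw [hl x hx]
        have := T.inv_mem (h x hx)
        rwa [mul_inv_rev, inv_inv] at this }
  have htop : G.IsFullyNormalized (T ⊔ centralizerIn S T) := ⟨le_rfl, fun Q hQ => by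
    obtain ⟨g, hg, rfl⟩ := isConj_iff.mp hQ
    rw [Subgroup.eq_of_le_of_card_ge hg.img_le hg.card_img.ge]⟩
  refine hyperfocal_le_of_coprime fun P hP α hα _ x hx => ?_
  have key : ∀ Q, G.IsFullyNormalized Q → centralizerIn S T ≤ Q → E.IsCentric (Q ⊓ T) →
      ∀ γ ∈ G.autGroup Q, Φ Q (autFun γ) := fun Q hQn hC hc γ hγ y hy =>
    mem_shiftSub.mp (shift_site hS hE h hab hY hQn hC hc hγ) y hy
  refine alperin_radical hS₀p h.sat hcls (fun g hg => ?_) (fun Q _ hQn hQc hQr _ γ hγ =>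
    key Q hQn ?_ ((CharSub.siteFam_sites hS₀p hW).rad Q hQc hQr).2 γ hγ)
    ((isMap_autFun hP).mpr hα) x hx
  · obtain ⟨γ, hγ, e⟩ := hg.exists_aut (Subgroup.eq_of_le_of_card_ge hg.img_le hg.card_img.ge)
    refine hcls.congr _ _ g ((isMap_autFun le_rfl).mpr hγ) (fun x hx => (e x hx).symm)
      (key _ htop le_sup_right ?_ γ hγ)
    rw [inf_eq_right.mpr le_sup_left]
    exact CharSub.centric_top hinv
  -- a radical subgroup contains the centralizer
  by_contra hCQ
  have hQ := hQn.1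
  haveI := finite_of_le hQ
  let C := centralizerIn S T
  have hQC : Q ≤ Subgroup.normalizer (C : Set Ω) := fun q hq => by
    refine (sup_le ?_ ?_ : T ⊔ C ≤ Subgroup.normalizer (C : Set Ω)) (hQ hq)
    · exact NormCent.le_normalizer_centralizerIn
    · exact Subgroup.le_normalizer
  have hlt : Q < Q ⊔ C := lt_of_le_of_ne le_sup_left fun e => hCQ (e.symm ▸ le_sup_right)
  obtain ⟨v, hv, hvQ⟩ := SetLike.exists_of_lt
    (lt_inf_normalizer hS₀p hlt (sup_le hQ le_sup_right))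
  have hv1 : v ∈ ((Q ⊔ C : Subgroup Ω) : Set Ω) := hv.1
  rw [Subgroup.coe_mul_of_left_le_normalizer_right Q C hQC] at hv1
  obtain ⟨q, hq, c, hc, rfl⟩ := hv1
  have hcQ : c ∉ Q := fun hh => hvQ (Q.mul_mem hq hh)
  have hcn : c ∈ Subgroup.normalizer (Q : Set Ω) := by
    have := Subgroup.mul_mem _ (Subgroup.inv_mem _ (Subgroup.le_normalizer hq)) hv.2
    rwa [inv_mul_cancel_left] at this
  have hcS₀ : c ∈ T ⊔ centralizerIn S T := Subgroup.mem_sup_right hc
  have hop : conjAut Q c hcn ∈ Criterion.opAut G p Q := by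
    refine Criterion.le_opAut (K := Small.chainAut G Q (Q ⊓ T) inf_le_left) (fun _ h => h.1)
      (Small.isPGroup_chainAut hS₀p inf_le_left hQ) (fun a ha b hb => ?_)
      ⟨autInducedBy_le hQ (conjAut_mem_autInducedBy hcn hcS₀), fun z hz => ?_, fun r hr => ?_⟩
    · refine Small.conj_chainAut inf_le_left hQ ⟨ha, fun z hz => ?_, fun z hz => ?_⟩ hb <;>
        exact ⟨autFun_mem _ hz.1, stronglyClosed_apply hsc ((isMap_autFun hQ).mpr ha) hz.1 hz.2⟩
    · rw [autFun_apply_mem _ hz.1, conjAut_apply]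
      exact (Fusion.mem_centralizerIn.mp hc).2 z hz.2
    · rw [autFun_apply_mem _ hr, conjAut_apply]
      refine ⟨Q.mul_mem (conj_mem_of_mem_normalizer hcn hr) (Q.inv_mem hr), ?_⟩
      have := hab (Subgroup.commutator_mem_commutator hcS₀ (hQ hr))
      rwa [commutatorElement_def] at this
  rw [show Criterion.opAut G p Q = Inn Q from hQr.2] at hop
  obtain ⟨q', hq'⟩ := hop
  exact hcQ (mem_of_inn (hQc.2 _ (isConj_refl hQ)) hcS₀ hcn ⟨q', hq'⟩ hQ)

end Cfsg.Lib.Fusion.ResLim
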