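import Cfsg.Agent.Fusion.Residual.Chain
import Cfsg.Agent.Fusion.NormalSubgroupSystem
import Cfsg.Agent.Fusion.ModClosed

/-!
The bottom member of the chain is normal in the whole system.
-/

set_option autoImplicit false
set_option linter.unusedSectionVars false
set_option linter.style.haveILetI false
set_option maxHeartbeats 2000000

namespace Cfsg.Lib.Fusion.ResLim

open Cfsg Cfsg.FusionSystem Cfsg.Lib.Fusion

variable {Ω : Type*} [Group Ω] {S T U : Subgroup Ω} {F : FusionSystem S} {E : FusionSystem T}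
  {p : ℕ} {G : FusionSystem (T ⊔ centralizerIn S T)} [Finite S] [Fact p.Prime]

theorem sc_sup (hS : IsPGroup p S) (hF : F.IsSaturated p) (hT : F.StronglyClosed T) :
    F.StronglyClosed (T ⊔ centralizerIn S T) := by
  refine stronglyClosed_sup hS hF hT inf_le_left fun P g hg hTP u huP hu => ?_
  have hTg : img T g = T :=
    img_eq_of_apply hg hTP fun t ht => stronglyClosed_apply hT hg (hTP ht) ht
  refine Subgroup.mem_sup_right (Fusion.mem_centralizerIn.mpr ⟨hg.mem_S huP, fun y hy => ?_⟩)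
  obtain ⟨x, hx, rfl⟩ := (hg.mono hTP).mem_img.mp (hTg.symm ▸ hy)
  rw [← hg.map_conj huP (hTP hx), (Fusion.mem_centralizerIn.mp hu).2 x hx]

variable (hS : IsPGroup p S) (hE : E.IsWeaklyNormalIn F p)
  (h : Link F E p (E.autGroup T) (T ⊔ centralizerIn S T) G)
include hS hE h

/-- Maps of the bottom member inside `T` are maps of the normal subsystem. -/
theorem isMap_base {P : Subgroup Ω} {f : Ω → Ω} (hf : IsMap G P f) (hPT : P ≤ T) :
    IsMap E P f := by
  obtain ⟨α, hα, f₀, hf₀, e⟩ := invariant_frattiniT (h.base_wn hS hE).2.2 hPT hf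
  rw [h.aut] at hα
  exact (hf₀.comp ((isMap_autFun le_rfl).mpr hα) fun x hx => hf₀.mem_S hx).congr e

/-- The bottom member is invariant under the automizer of its top. -/
theorem transport {α : MulAut (T ⊔ centralizerIn S T : Subgroup Ω)}
    (hα : α ∈ F.autGroup (T ⊔ centralizerIn S T)) {P : Subgroup Ω} {f : Ω → Ω}
    (hf : IsMap G P f) :
    IsMap G (img P (autFun α)) (fun y => autFun α (f (autFun α⁻¹ y))) := by
  obtain ⟨-, hF, hinv⟩ := id hE
  have hT := hinv.2.1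
  have hσSS : (T ⊔ centralizerIn S T) ≤ S := h.le_S
  haveI := finite_of_le hσSS
  have hσSp := h.pgroup hS
  have hW := h.base_wn hS hE
  have hsc := sc_sup hS hF hT
  have ha : IsMap F (T ⊔ centralizerIn S T) (autFun α) := (isMap_autFun hσSS).mpr hα
  have hcls := WeaklyNormal.transport_class (E := G) (D := G) hsc hα
  have hsite : ∀ Q : Subgroup Ω, G.IsFullyNormalized Q → E.IsCentric (Q ⊓ T) →
      ∀ γ ∈ G.autGroup Q, IsMap G (img Q (autFun α))
        (fun y => autFun α (autFun γ (autFun α⁻¹ y))) := by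
    intro Q hQn hQc
    have hQ := hQn.1
    haveI := finite_of_le hQ
    have hm := ha.mono hQ
    have hQ' : img Q (autFun α) ≤ (T ⊔ centralizerIn S T) := IsMap.img_le_iff.mpr fun x hx => autFun_mem α (hQ hx)
    suffices hle : G.autGroup Q ≤ (G.autGroup (img Q (autFun α))).comap
        (MulAut.congr (hm.equiv rfl)).toMonoidHom by
      intro γ hγ
      refine ((isMap_autFun hQ').mpr (hle hγ)).congr fun y hy => ?_
      obtain ⟨x, hx, rfl⟩ := hm.mem_img.mp hy
      show autFun α (autFun γ (autFun α⁻¹ (autFun α x))) =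
        autFun (MulAut.congr (hm.equiv rfl) γ) (autFun α x)
      rw [autFun_inv_apply' α (hQ hx), congr_equiv_spec hm rfl γ hx]
    refine PPower.autGroup_le_of hσSp le_rfl h.sat hQn ?_ ?_
    · intro β hβ
      obtain ⟨t, ht, et⟩ := mem_autInducedBy.mp hβ
      refine Subgroup.mem_comap.mpr (autInducedBy_le hQ'
        (mem_autInducedBy.mpr ⟨autFun α t, autFun_mem α ht, fun y => ?_⟩))
      obtain ⟨x, hx, e⟩ := hm.mem_img.mp y.2
      rw [← autFun_apply, ← e]
      show autFun (MulAut.congr (hm.equiv rfl) β) (autFun α x) = _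
      rw [congr_equiv_spec hm rfl β hx, autFun_apply_mem _ hx, et, ha.map_conj ht (hQ hx)]
    · intro β hβ hcop
      have hβE : IsMap E (Q ⊓ T) (autFun β) :=
        isMap_base hS hE h (((isMap_autFun hQ).mpr hβ).mono inf_le_left) inf_le_right
      refine Subgroup.mem_comap.mpr (h.rcond _ hQ' _ (congr_mem_autGroup hm rfl
        (PPower.autGroup_le_of_sub h.le hQ hσSS hβ)) ?_ ⟨?_, ?_⟩)
      · show (orderOf (MulAut.congr (hm.equiv rfl) β)).Coprime p
        rwa [MulEquiv.orderOf_eq]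
      · rw [← img_inf_stronglyClosed hT hm]
        exact CharSub.centricT_img hinv hQc (hm.mono inf_le_left)
      · rw [← img_inf_stronglyClosed hT hm]
        refine strongInv_of_invariant hinv (Q ⊓ T) (Q ⊓ T) le_rfl inf_le_right _ hβE
          (fun x hx => ⟨autFun_mem β hx.1, hβE.mem_S hx⟩) _ (hm.mono inf_le_left) _
          fun x hx => ?_
        exact congr_equiv_spec hm rfl β hx.1
  have hT_S0 : T ≤ (T ⊔ centralizerIn S T) := le_sup_left
  have htop : G.IsFullyNormalized (T ⊔ centralizerIn S T) := ⟨le_rfl, fun Q hQ => by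
    obtain ⟨g, hg, rfl⟩ := isConj_iff.mp hQ
    rw [Subgroup.eq_of_le_of_card_ge hg.img_le hg.card_img.ge]⟩
  have htopc : E.IsCentric ((T ⊔ centralizerIn S T) ⊓ T) := by
    rw [inf_eq_right.mpr hT_S0]; exact CharSub.centric_top hinv
  refine alperin_radical hσSp h.sat hcls (fun g hg => ?_) (fun Q _ hQn hQc hQr _ γ hγ =>
    hsite Q hQn ((CharSub.siteFam_sites hσSp hW).rad Q hQc hQr).2 γ hγ) hf
  obtain ⟨γ, hγ, e⟩ := hg.exists_aut (Subgroup.eq_of_le_of_card_ge hg.img_le hg.card_img.ge)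
  exact hcls.congr _ _ g ((isMap_autFun le_rfl).mpr hγ) (fun x hx => (e x hx).symm)
    (hsite _ htop htopc γ hγ)

theorem fr_comp {P Q : Subgroup Ω} {f g : Ω → Ω} (hf : FrattiniMap G F P f)
    (hg : FrattiniMap G F Q g) (hPQ : ∀ x ∈ P, f x ∈ Q) : FrattiniMap G F P (g ∘ f) := by
  obtain ⟨a, ha, f₀, hf₀, ef⟩ := hf
  obtain ⟨b, hb, g₀, hg₀, eg⟩ := hg
  have h1 := transport hS hE h (Subgroup.inv_mem _ ha) hg₀
  rw [inv_inv] at h1
  refine ⟨b * a, Subgroup.mul_mem _ hb ha, _, hf₀.comp h1 fun x hx => ?_, fun x hx => ?_⟩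
  · rw [← autFun_inv_apply' a (hf₀.mem_S hx), ← ef x hx]
    exact IsMap.apply_mem_img (hPQ x hx)
  · show g (f x) = autFun (b * a) (autFun a⁻¹ (g₀ (autFun a (f₀ x))))
    rw [← ef x hx, autFun_mul _ _ (autFun_mem _ (hg₀.mem_S (hPQ x hx))),
      autFun_inv_apply a (hg₀.mem_S (hPQ x hx)), eg _ (hPQ x hx)]

theorem fr_inverse {P : Subgroup Ω} {f k : Ω → Ω} (hf : FrattiniMap G F P f)
    (hk : ∀ x ∈ P, k (f x) = x) : FrattiniMap G F (img P f) k := by
  obtain ⟨a, ha, f₀, hf₀, ef⟩ := hf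
  obtain ⟨d, hd, -, hdl, -⟩ := hf₀.exists_inv
  have h1 := transport hS hE h ha hd
  have hfF : IsMap F P f := (((CharSub.isMap_of_sub h.le hf₀)).comp
    ((isMap_autFun h.le_S).mpr ha) fun x hx => hf₀.mem_S hx).congr ef
  have hle : img P f ≤ img (img P f₀) (autFun a) := IsMap.img_le_iff.mpr fun x hx => by
    rw [ef x hx]
    exact IsMap.apply_mem_img (IsMap.apply_mem_img hx)
  refine ⟨a⁻¹, Subgroup.inv_mem _ ha, _, h1.mono hle, fun y hy => ?_⟩
  obtain ⟨x, hx, rfl⟩ := hfF.mem_img.mp hy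
  show k (f x) = autFun a⁻¹ (autFun a (d (autFun a⁻¹ (f x))))
  rw [hk x hx, ef x hx, autFun_inv_apply' a (hf₀.mem_S hx), hdl x hx,
    autFun_inv_apply' a (hf₀.le hx)]

omit h in
/-- A conjugate with a witness of `T` acting within `O_p`. -/
theorem exists_T_witness {P : Subgroup Ω} (hP : P ≤ S) (hPT : ¬ E.IsCentric (P ⊓ T)) :
    ∃ f, IsMap F P f ∧ ∃ x, ∃ hx : x ∈ Subgroup.normalizer (img P f : Set Ω),
      x ∈ T ∧ x ∉ img P f ∧ conjAut (img P f) x hx ∈ Criterion.opAut F p (img P f) := by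
  obtain ⟨-, hF, hs, hT, -, -⟩ := hE
  have hn : S ≤ Subgroup.normalizer (T : Set Ω) := normalizes_of_stronglyClosed hT
  set U := P ⊓ T
  have hUS : U ≤ S := inf_le_left.trans hP
  haveI := finite_of_le hUS
  have hPN : P ≤ normalizerIn S U := fun g hg => ⟨hP hg, mem_normalizer_of_maps_finite fun x hx =>
    ⟨P.mul_mem (P.mul_mem hg hx.1) (P.inv_mem hg), conj_mem_of_mem_normalizer (hn (hP hg)) hx.2⟩⟩
  obtain ⟨R, hUR, hRn⟩ := exists_fullyNormalized (F := F) hUS
  obtain ⟨-, hfa, hrec⟩ := fullyNormalized_props hS hF hRn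
  have hC : ¬ centralizerIn T R ≤ R := not_centralizer_le hT hs inf_le_right hPT hUR hrec
  obtain ⟨f₀, hf₀, hi₀⟩ := isConj_iff.mp hUR
  obtain ⟨χ, -, k, hk, hki, -, hkN⟩ := exists_map_normalizer hS hfa hrec hf₀ hi₀
  have hkP : IsMap F P k := hk.mono hPN
  refine ⟨k, hkP, ?_⟩
  set Q := img P k with hQdef
  have hQS : Q ≤ S := hkP.img_le
  haveI := finite_of_le hQS
  have hQT : Q ⊓ T = R := by rw [← hki]; exact (img_inf_stronglyClosed hT hkP).symm
  have hQN : Q ≤ normalizerIn S R := IsMap.img_le_iff.mpr fun x hx => hkN x (hPN hx)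
  set C := centralizerIn T R
  have hCS : C ≤ S := inf_le_left.trans hT.1
  haveI := finite_of_le hCS
  have hQC : Q ≤ Subgroup.normalizer (C : Set Ω) := fun q hq => by
    refine mem_normalizer_of_maps_finite fun c hc => ?_
    obtain ⟨hcT, hcc⟩ := Fusion.mem_centralizerIn.mp hc
    refine Fusion.mem_centralizerIn.mpr
      ⟨conj_mem_of_mem_normalizer (hn (hQS hq)) hcT, fun z hz => ?_⟩
    have h1 : q⁻¹ * z * q ∈ R := by
      simpa using conj_mem_of_mem_normalizer (Subgroup.inv_mem _ (hQN hq).2) hz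
    calc q * c * q⁻¹ * z * (q * c * q⁻¹)⁻¹ = q * (c * (q⁻¹ * z * q) * c⁻¹) * q⁻¹ := by group
      _ = q * (q⁻¹ * z * q) * q⁻¹ := by rw [hcc _ h1]
      _ = z := by group
  have hlt : Q < Q ⊔ C := lt_of_le_of_ne le_sup_left fun h =>
    hC fun c hc => hQT.le
      ⟨h.symm ▸ Subgroup.mem_sup_right hc, (Fusion.mem_centralizerIn.mp hc).1⟩
  obtain ⟨v, hv, hvQ⟩ := SetLike.exists_of_lt (lt_inf_normalizer hS hlt (sup_le hQS hCS))
  have hv1 : v ∈ ((Q ⊔ C : Subgroup Ω) : Set Ω) := hv.1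
  rw [Subgroup.coe_mul_of_left_le_normalizer_right Q C hQC] at hv1
  obtain ⟨q, hq, x, hx, rfl⟩ := hv1
  have hxQ : x ∉ Q := fun h => hvQ (Q.mul_mem hq h)
  have hxn : x ∈ Subgroup.normalizer (Q : Set Ω) := by
    have := Subgroup.mul_mem _ (Subgroup.inv_mem _ (Subgroup.le_normalizer hq)) hv.2
    rwa [inv_mul_cancel_left] at this
  obtain ⟨hxT, hxc⟩ := Fusion.mem_centralizerIn.mp hx
  refine ⟨x, hxn, hxT, hxQ, ?_⟩
  have hRQ : R ≤ Q := hQT.ge.trans inf_le_left
  refine Criterion.le_opAut (K := Small.chainAut F Q R hRQ) (fun _ h => h.1)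
    (Small.isPGroup_chainAut hS hRQ hQS) (fun α hα β hβ => ?_)
    ⟨autInducedBy_le hQS (conjAut_mem_autInducedBy hxn (hCS hx)), fun z hz => ?_, fun r hr => ?_⟩
  · refine Small.conj_chainAut hRQ hQS ⟨hα, fun z hz => ?_, fun z hz => ?_⟩ hβ <;>
    · rw [← hQT] at hz ⊢
      exact ⟨autFun_mem _ hz.1, stronglyClosed_apply hT ((isMap_autFun hQS).mpr hα) hz.1 hz.2⟩
  · rw [autFun_apply_mem _ (hRQ hz), conjAut_apply]
    exact hxc z hz
  · rw [autFun_apply_mem _ hr, conjAut_apply, ← hQT]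
    refine ⟨Q.mul_mem (conj_mem_of_mem_normalizer hxn hr) (Q.inv_mem hr), ?_⟩
    show x * r * x⁻¹ * r⁻¹ ∈ T
    rw [show x * r * x⁻¹ * r⁻¹ = x * (r * x⁻¹ * r⁻¹) by group]
    exact T.mul_mem hxT (conj_mem_of_mem_normalizer (hn (hQS hr)) (T.inv_mem hxT))

/-- Automorphisms of a fully normalized subgroup satisfy the Frattini condition. -/
theorem fr_aut {Q : Subgroup Ω} (hQ_S0 : Q ≤ T ⊔ centralizerIn S T)
    (hne : Q ≠ T ⊔ centralizerIn S T) (hQn : F.IsFullyNormalized Q)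
    (hbig : ∀ (R : Subgroup Ω) (f : Ω → Ω), R ≤ T ⊔ centralizerIn S T →
      Nat.card Q < Nat.card R → IsMap F R f → FrattiniMap G F R f)
    {β : MulAut Q} (hβ : β ∈ F.autGroup Q) : FrattiniMap G F Q (autFun β) := by
  obtain ⟨-, hF, hinv⟩ := id hE
  have hT := hinv.2.1
  have hσSS : (T ⊔ centralizerIn S T) ≤ S := h.le_S
  haveI := finite_of_le hσSS
  have hQS : Q ≤ S := hQ_S0.trans hσSS
  haveI := finite_of_le hQS
  haveI := finite_of_le hT.1
  obtain ⟨-, hfa, hrec⟩ := fullyNormalized_props hS hF hQn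
  haveI : Finite (MulAut Q) := Finite.of_injective (fun f : MulAut Q => (f : Q → Q))
    DFunLike.coe_injective
  have grow : ∀ (f : Ω → Ω) (R : Subgroup Ω), IsMap F R f → R ≤ (T ⊔ centralizerIn S T) → Q ≤ R → R ≠ Q →
      FrattiniMap G F Q f := fun f R hf hR hQR hne => by
    haveI := finite_of_le (hR.trans hσSS)
    exact (hbig R f hR (lt_of_le_of_ne (Subgroup.card_le_of_le hQR) fun e =>
      hne (Subgroup.eq_of_le_of_card_ge hQR e.ge).symm) hf).mono hQR
  -- extension to one element of `(T ⊔ centralizerIn S T)`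
  have hext : ∀ γ ∈ F.autGroup Q, ∀ (x : Ω) (hx : x ∈ Subgroup.normalizer (Q : Set Ω)), x ∈ (T ⊔ centralizerIn S T) →
      x ∉ Q → (γ * conjAut Q x hx * γ⁻¹) ∈ autInducedBy S Q →
      FrattiniMap G F Q (autFun γ) := by
    intro γ hγ x hx hxS hxQ hc
    obtain ⟨g, hg, eg⟩ := receptive_extend hrec ((isMap_autFun hQS).mpr hγ) (img_autFun γ)
    have hxe : x ∈ extSub S Q (autFun γ) := by
      obtain ⟨s, hs, es⟩ := mem_autInducedBy.mp hc
      refine mem_extSub.mpr ⟨hσSS hxS, hx, s, hs, fun y hy => ?_⟩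
      have h1 := es ⟨autFun γ y, autFun_mem γ hy⟩
      rw [← autFun_apply, autFun_mul _ _ (autFun_mem γ hy), autFun_inv_apply' γ hy,
        autFun_mul _ _ hy, autFun_apply_mem (conjAut Q x hx) hy, conjAut_apply] at h1
      exact h1
    have hR : Q ⊔ Subgroup.zpowers x ≤ extSub S Q (autFun γ) :=
      sup_le (le_extSub ((isMap_autFun hQS).mpr hγ)) (Subgroup.zpowers_le.mpr hxe)
    exact (grow g _ (hg.mono hR) (sup_le hQ_S0 (Subgroup.zpowers_le.mpr hxS)) le_sup_left
      fun e => hxQ (e ▸ Subgroup.mem_sup_right (Subgroup.mem_zpowers x))).congr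
      fun y hy => (eg y hy).symm
  by_cases hC : centralizerIn (T ⊔ centralizerIn S T) Q ≤ Q
  swap
  · obtain ⟨x, hx, hxQ⟩ := SetLike.not_le_iff_exists.mp hC
    obtain ⟨hxS, hxc⟩ := Fusion.mem_centralizerIn.mp hx
    have hxn : x ∈ Subgroup.normalizer (Q : Set Ω) := (centralizerIn_le_normalizerIn Q hx).2
    refine hext β hβ x hxn hxS hxQ ?_
    rw [show conjAut Q x hxn = 1 from MulEquiv.ext fun y => Subtype.ext (by
      rw [conjAut_apply, MulAut.one_apply]; exact hxc y y.2), mul_one, mul_inv_cancel]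
    exact Subgroup.one_mem _
  obtain ⟨-, R₀, hR₀⟩ := hfa
  by_cases hcen : E.IsCentric (Q ⊓ T)
  swap
  · obtain ⟨k, hk, x, hxn, hxT, hxQ, hop⟩ := exists_T_witness hS hE hQS hcen
    obtain ⟨d, hd, hdi, -, -⟩ := hk.exists_inv
    obtain ⟨-, hfa', hrec'⟩ := fullyNormalized_props hS hF hQn
    obtain ⟨χ, hχ, g, hg, hgi, -, -⟩ := exists_map_normalizer hS hfa' hrec' hd hdi
    have hQ'S : img Q k ≤ S := hk.img_le
    have hgm := hg.mono (le_normalizerIn hQ'S)
    have hxN : x ∈ normalizerIn S (img Q k) := ⟨hT.1 hxT, hxn⟩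
    have hgxn : g x ∈ Subgroup.normalizer (Q : Set Ω) := by
      have := (hg.mem_normalizerIn (le_normalizerIn hQ'S) hxN hxn).2
      rwa [hgi] at this
    have hgxT : g x ∈ T := stronglyClosed_apply hT hg hxN hxT
    have hgxQ : g x ∉ Q := fun hq => by
      obtain ⟨z, hz, e⟩ := hgm.mem_img.mp (hgi.symm ▸ hq : g x ∈ img (img Q k) g)
      exact hxQ (hg.injOn (le_normalizerIn hQ'S hz) hxN e ▸ hz)
    have hop' : conjAut Q (g x) hgxn ∈ Criterion.opAut F p Q := by
      have h1 := Criterion.congr_opAut hgm hgi hop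
      convert h1 using 1
      refine eq_of_mul_inv_eq_one (eq_one_of_autFun fun y hy => ?_)
      have key : ∀ z ∈ Q, autFun (conjAut Q (g x) hgxn) z =
          autFun (MulAut.congr (hgm.equiv hgi) (conjAut (img Q k) x hxn)) z := fun z hz => by
        obtain ⟨w, hw, rfl⟩ := hgm.mem_img.mp (hgi.symm ▸ hz : z ∈ img (img Q k) g)
        rw [congr_equiv_spec hgm hgi _ hw, autFun_apply_mem _ hz, conjAut_apply,
          autFun_apply_mem _ hw, conjAut_apply, hg.map_conj hxN (le_normalizerIn hQ'S hw)]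
      rw [autFun_mul _ _ hy, key _ (autFun_mem _ hy), autFun_inv_apply _ hy]
    refine hext β hβ (g x) hgxn (Subgroup.mem_sup_left hgxT) hgxQ ?_
    obtain ⟨c, hc, e⟩ := Criterion.opAut_normal hQS hβ hop'
    rw [← e]
    haveI := Cfsg.Lib.Components.pCore_normal' (G := F.autGroup Q) p
    obtain ⟨u, hu⟩ := exists_conj_le_sylow R₀ (Cfsg.Lib.Components.isPGroup_pCore (G := F.autGroup Q) p)
    have h2 := hu (u⁻¹ * c * u) (by
      simpa using Subgroup.Normal.conj_mem inferInstance c hc u⁻¹)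
    rw [show u * (u⁻¹ * c * u) * u⁻¹ = c by group, hR₀] at h2
    exact h2
  -- the centric meet
  have hfr : ∀ γ ∈ autInducedBy S Q, FrattiniMap G F Q (autFun γ) := by
    intro γ hγ
    obtain ⟨s, hs, es⟩ := mem_autInducedBy.mp hγ
    have hlt := lt_inf_normalizer hS (lt_of_le_of_ne hQ_S0 hne) hσSS
    exact (grow (fun y => s * y * s⁻¹) _ (isMap_conj (inf_le_left.trans hσSS) hs) inf_le_left
      hlt.le hlt.ne').congr fun y hy => by rw [autFun_apply_mem _ hy, es]
  let X := F.autGroup Q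
  let Good : Subgroup X :=
    { carrier := {γ | FrattiniMap G F Q (autFun (γ : MulAut Q))}
      one_mem' := (FrattiniMap.of_isMap (isMap_id (F := G) hQ_S0)).congr fun y hy => by
        rw [Subgroup.coe_one, autFun_one hy]; rfl
      mul_mem' := fun {a b} ha hb =>
        (fr_comp hS hE h hb ha fun y hy => autFun_mem (b : MulAut Q) hy).congr fun y hy => by
          rw [Subgroup.coe_mul, autFun_mul _ _ hy]; rfl
      inv_mem' := fun {a} ha => by
        have h1 := fr_inverse hS hE h ha (k := autFun ((a⁻¹ : X) : MulAut Q)) fun y hy => by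
          rw [Subgroup.coe_inv, autFun_inv_apply' _ hy]
        rwa [img_autFun] at h1 }
  let N : Subgroup X :=
    { carrier := {γ | IsMap E (Q ⊓ T) (autFun (γ : MulAut Q))}
      one_mem' := (isMap_id (F := E) inf_le_right).congr fun y hy => by
        rw [Subgroup.coe_one, autFun_one hy.1]; rfl
      mul_mem' := fun {a b} ha hb =>
        (hb.comp ha fun y hy => ⟨autFun_mem _ hy.1, hb.mem_S hy⟩).congr fun y hy => by
          rw [Subgroup.coe_mul, autFun_mul _ _ hy.1]; rfl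
      inv_mem' := fun {a} ha => by
        obtain ⟨d, hd, -, hdl, hdr⟩ := ha.exists_inv
        have himg : img (Q ⊓ T) (autFun (a : MulAut Q)) = Q ⊓ T :=
          img_eq_of_apply (F := E) ha le_rfl fun y hy => ⟨autFun_mem _ hy.1, ha.mem_S hy⟩
        rw [himg] at hd hdr
        refine hd.congr fun y hy => ?_
        obtain ⟨z, hz, rfl⟩ := ha.mem_img.mp (himg.symm ▸ hy)
        rw [hdl z hz, Subgroup.coe_inv, autFun_inv_apply' _ hz.1] }
  haveI hNn : N.Normal := ⟨fun n hn g => by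
    show IsMap E (Q ⊓ T) (autFun ((g * n * g⁻¹ : X) : MulAut Q))
    have hm := (isMap_autFun hQS).mpr g.2
    have hmU := hm.mono (inf_le_left : Q ⊓ T ≤ Q)
    have h1 := strongInv_of_invariant hinv (Q ⊓ T) (Q ⊓ T) le_rfl inf_le_right _ hn
      (fun x hx => ⟨autFun_mem _ hx.1, hn.mem_S hx⟩) _ hmU
      (autFun ((g * n * g⁻¹ : X) : MulAut Q)) fun x hx => by
        rw [Subgroup.coe_mul, Subgroup.coe_mul, Subgroup.coe_inv,
          autFun_mul _ _ (autFun_mem _ hx.1), autFun_inv_apply' _ hx.1,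
          autFun_mul _ _ hx.1]
    rwa [img_inf_stronglyClosed hT hm, img_autFun] at h1⟩
  have hRG : (R₀ : Subgroup X) ≤ Good := by
    rw [hR₀]
    exact fun γ hγ => hfr _ (Subgroup.mem_subgroupOf.mp hγ)
  have hNG : N ≤ Good := by
    obtain ⟨P, hP⟩ := (sylow_subgroupOf_iff inf_le_right
      (isMaxPIn_inf_normal R₀ N).2.1).mpr (isMaxPIn_inf_normal R₀ N)
    have htop : Good.subgroupOf N = ⊤ := by
      refine NormCent.eq_top_of_coprime_mem _ P (fun y hy => ?_) fun y hy => ?_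
      · rw [hP] at hy
        exact Subgroup.mem_subgroupOf.mpr (hRG (Subgroup.mem_subgroupOf.mp hy).1)
      · have hcop : (orderOf ((y : X) : MulAut Q)).Coprime p := by
          rw [Subgroup.orderOf_coe, Subgroup.orderOf_coe]; exact hy
        exact Subgroup.mem_subgroupOf.mpr (FrattiniMap.of_isMap ((isMap_autFun hQ_S0).mpr
          (h.rcond Q hQ_S0 _ (y : X).2 hcop ⟨hcen, y.2⟩)))
    exact fun y hy => Subgroup.mem_subgroupOf.mp (htop.ge (Subgroup.mem_top ⟨y, hy⟩))
  set bx : X := ⟨β, hβ⟩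
  obtain ⟨k, hk, hkR⟩ := (isMaxPIn_inf_normal R₀ N).exists_conj_le
    (U := ((R₀ : Subgroup X) ⊓ N).map (MulAut.conj bx).toMonoidHom)
    (map_conj_le fun t ht => hNn.conj_mem t ht.2 bx)
    ((R₀.isPGroup'.of_injective _ (Subgroup.inclusion_injective inf_le_left)).map _)
  suffices hγ : k * bx ∈ Good by
    have := Good.mul_mem (Good.inv_mem (hNG hk)) hγ
    rw [inv_mul_cancel_left] at this
    exact this
  obtain ⟨x, hx, hxQ⟩ := SetLike.exists_of_lt (lt_inf_normalizer hS (lt_of_le_of_ne hQ_S0 hne) hσSS)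
  have hGQ : conjAut Q x hx.2 ∈ G.autGroup Q :=
    autInducedBy_le hQ_S0 (conjAut_mem_autInducedBy hx.2 hx.1)
  set cx : X := ⟨conjAut Q x hx.2,
    autInducedBy_le hQS (conjAut_mem_autInducedBy hx.2 (hσSS hx.1))⟩
  have hcR : cx ∈ (R₀ : Subgroup X) := by
    rw [hR₀]
    exact Subgroup.mem_subgroupOf.mpr (conjAut_mem_autInducedBy hx.2 (hσSS hx.1))
  have hcN : cx ∈ N :=
    isMap_base hS hE h (((isMap_autFun hQ_S0).mpr hGQ).mono inf_le_left) inf_le_right
  have h1 := hkR _ ⟨cx, ⟨hcR, hcN⟩, rfl⟩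
  refine hext _ (k * bx).2 x hx.2 hx.1 hxQ ?_
  have h2 : (k * bx) * cx * (k * bx)⁻¹ ∈ (R₀ : Subgroup X) := by
    have := (Subgroup.mem_inf.mp h1).1
    simp only [MulEquiv.coe_toMonoidHom, MulAut.conj_apply] at this
    convert this using 1
    group
  rw [hR₀] at h2
  exact Subgroup.mem_subgroupOf.mp h2

/-- Every map on the top of the bottom member satisfies the Frattini condition. -/
theorem fr_main : ∀ (n : ℕ) (P : Subgroup Ω),
    Nat.card (T ⊔ centralizerIn S T : Subgroup Ω) - Nat.card P ≤ n →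
    P ≤ T ⊔ centralizerIn S T → ∀ f, IsMap F P f → FrattiniMap G F P f := by
  obtain ⟨-, hF, hinv⟩ := id hE
  have hsc := sc_sup hS hF hinv.2.1
  haveI := finite_of_le hsc.1
  have hinT : ∀ (P : Subgroup Ω) (f : Ω → Ω), P ≤ (T ⊔ centralizerIn S T) → IsMap F P f → ∀ x ∈ P, f x ∈ (T ⊔ centralizerIn S T) :=
    fun P f hP hf x hx => stronglyClosed_apply hsc hf hx (hP hx)
  have hfull : ∀ f, IsMap F (T ⊔ centralizerIn S T) f → FrattiniMap G F (T ⊔ centralizerIn S T) f := by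
    intro f hf
    have hi : img (T ⊔ centralizerIn S T) f = (T ⊔ centralizerIn S T) := Subgroup.eq_of_le_of_card_ge
      (IsMap.img_le_iff.mpr (hinT (T ⊔ centralizerIn S T) f le_rfl hf)) hf.card_img.ge
    obtain ⟨a, ha, e⟩ := hf.exists_aut hi
    exact ⟨a, ha, id, isMap_id le_rfl, fun x hx => (e x hx).symm⟩
  intro n
  induction n with
  | zero =>
    intro P hn hP f hf
    obtain rfl : P = (T ⊔ centralizerIn S T) := Subgroup.eq_of_le_of_card_ge hP (by omega)
    exact hfull f hf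
  | succ n ih =>
    intro P hn hP f hf
    by_cases hne : P = (T ⊔ centralizerIn S T)
    · subst hne; exact hfull f hf
    have hbig : ∀ (R : Subgroup Ω) (g : Ω → Ω), R ≤ (T ⊔ centralizerIn S T) → Nat.card P < Nat.card R →
        IsMap F R g → FrattiniMap G F R g := fun R g hR hc hg =>
      ih R (by omega) hR g hg
    obtain ⟨Q, hPQ, hQ⟩ := exists_fullyNormalized (F := F) (hP.trans hsc.1)
    obtain ⟨-, hfa, hrec⟩ := fullyNormalized_props hS hF hQ
    have hcard : Nat.card Q = Nat.card P := isConj_card hPQ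
    have move : ∀ P₁ : Subgroup Ω, P₁ ≤ (T ⊔ centralizerIn S T) → Nat.card P₁ = Nat.card P → F.IsConj P₁ Q →
        ∃ g, IsMap F P₁ g ∧ img P₁ g = Q ∧ FrattiniMap G F P₁ g := by
      intro P₁ hP₁ hc hP₁Q
      obtain ⟨g₀, hg₀, hi₀⟩ := isConj_iff.mp hP₁Q
      obtain ⟨-, -, g, hg, hgi, -, -⟩ := exists_map_normalizer hS hfa hrec hg₀ hi₀
      have hlt := lt_inf_normalizer hS (lt_of_le_of_ne hP₁ fun e =>
        hne (Subgroup.eq_of_le_of_card_ge hP (by rw [← hc, e]))) hsc.1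
      haveI := finite_of_le ((inf_le_left : (T ⊔ centralizerIn S T) ⊓ Subgroup.normalizer (P₁ : Set Ω) ≤ (T ⊔ centralizerIn S T)).trans hsc.1)
      refine ⟨g, hg.mono (le_normalizerIn (hP₁.trans hsc.1)), hgi,
        (hbig _ g inf_le_left ?_ (hg.mono (inf_le_inf_right _ hsc.1))).mono hlt.le⟩
      rw [← hc]
      exact lt_of_le_of_ne (Subgroup.card_le_of_le hlt.le) fun e =>
        hlt.ne (Subgroup.eq_of_le_of_card_ge hlt.le e.ge)
    set P' := img P f
    have hP'T : P' ≤ (T ⊔ centralizerIn S T) := IsMap.img_le_iff.mpr (hinT P f hP hf)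
    obtain ⟨g, hgP, hgi, G1⟩ := move P hP rfl hPQ
    obtain ⟨g', hg'P, hgi', G2⟩ := move P' hP'T hf.card_img
      (isConj_trans (isConj_symm (isConj_iff.mpr ⟨f, hf, rfl⟩)) hPQ)
    have hQT : Q ≤ (T ⊔ centralizerIn S T) := hgi ▸ IsMap.img_le_iff.mpr (hinT P g hP hgP)
    obtain ⟨k', -, -, hk'l, -⟩ := hg'P.exists_inv
    obtain ⟨k, hk, -, hkl, -⟩ := hgP.exists_inv
    rw [hgi] at hk
    have hkP : ∀ y ∈ Q, k y ∈ P := fun y hy => by
      obtain ⟨x, hx, rfl⟩ := hgP.mem_img.mp (hgi.symm ▸ hy)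
      rwa [hkl x hx]
    have hb : IsMap F Q (g' ∘ (f ∘ k)) :=
      (hk.comp hf hkP).comp hg'P fun y hy => IsMap.apply_mem_img (hkP y hy)
    have hbi : img Q (g' ∘ (f ∘ k)) = Q := by
      haveI := finite_of_le hQ.1
      refine Subgroup.eq_of_le_of_card_ge (IsMap.img_le_iff.mpr fun y hy => ?_) hb.card_img.ge
      rw [← hgi']
      exact IsMap.apply_mem_img (IsMap.apply_mem_img (hkP y hy))
    obtain ⟨β, hβ, hβe⟩ := hb.exists_aut hbi
    have G3 : FrattiniMap G F Q (autFun β) := fr_aut hS hE h hQT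
      (fun e => hne (Subgroup.eq_of_le_of_card_ge hP (by rw [← hcard, e]))) hQ
      (fun R g hR hc hg => hbig R g hR (hcard ▸ hc) hg) hβ
    have G4 := fr_inverse hS hE h G2 (k := k') hk'l
    rw [hgi'] at G4
    refine (fr_comp hS hE h (fr_comp hS hE h G1 G3 fun x hx => hgi ▸ IsMap.apply_mem_img hx) G4
      fun x hx => autFun_mem β (hgi ▸ IsMap.apply_mem_img hx)).congr fun x hx => ?_
    show f x = k' (autFun β (g x))
    rw [hβe _ (hgi ▸ IsMap.apply_mem_img hx)]
    show f x = k' (g' (f (k (g x))))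
    rw [hkl x hx, hk'l _ (IsMap.apply_mem_img hx)]

/-- The bottom member is normal. -/
theorem link_normal : G.IsNormalIn F p := by
  obtain ⟨-, hF, hinv⟩ := id hE
  have hsc := sc_sup hS hF hinv.2.1
  haveI := finite_of_le hsc.1
  have hSI : StrongInv G F := by
    intro P Q hPQ hQ f hf hfQ g hg k hk
    obtain ⟨a, ha, g₀, hg₀, he⟩ := fr_main hS hE h _ Q le_rfl hQ g hg
    obtain ⟨d, hd, -, hdl, -⟩ := (hg₀.mono hPQ).exists_inv
    have hdP : ∀ y ∈ img P g₀, d y ∈ P := fun y hy => by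
      obtain ⟨x, hx, rfl⟩ := (hg₀.mono hPQ).mem_img.mp hy
      rwa [hdl x hx]
    have h1 : IsMap G (img P g₀) (g₀ ∘ (f ∘ d)) :=
      (hd.comp hf hdP).comp hg₀ fun y hy => hfQ _ (hdP y hy)
    have h2 := transport hS hE h ha h1
    have hle : img P g ≤ img (img P g₀) (autFun a) := IsMap.img_le_iff.mpr fun x hx => by
      rw [he x (hPQ hx)]
      exact IsMap.apply_mem_img (IsMap.apply_mem_img hx)
    refine (h2.mono hle).congr fun y hy => ?_
    obtain ⟨x, hx, rfl⟩ := (hg.mono hPQ).mem_img.mp hy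
    rw [hk x hx, he _ (hfQ x hx)]
    show _ = autFun a (g₀ (f (d (autFun a⁻¹ (g x)))))
    rw [he x (hPQ hx), autFun_inv_apply' a (hg₀.mem_S (hPQ hx)), hdl x hx]
  refine ⟨⟨h.sat, hF, (invariant_iff_strongInv hS hF h.le hsc).mpr hSI⟩, fun α hα => ?_⟩
  have hC : centralizerIn S (T ⊔ centralizerIn S T) ≤ (T ⊔ centralizerIn S T) := fun c hc => Subgroup.mem_sup_right
    (Fusion.mem_centralizerIn.mpr ⟨(Fusion.mem_centralizerIn.mp hc).1, fun x hx =>
      (Fusion.mem_centralizerIn.mp hc).2 x (Subgroup.mem_sup_left hx)⟩)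
  have he : (T ⊔ centralizerIn S T) ⊔ centralizerIn S (T ⊔ centralizerIn S T) = (T ⊔ centralizerIn S T) := sup_eq_left.mpr hC
  have hαF : IsMap F ((T ⊔ centralizerIn S T) ⊔ centralizerIn S (T ⊔ centralizerIn S T)) (autFun α) := by
    rw [he]; exact CharSub.isMap_of_sub h.le ((isMap_autFun le_rfl).mpr hα)
  obtain ⟨β, hβ, eβ⟩ := hαF.exists_aut
    (img_eq_of_apply hαF le_rfl fun x hx => he.ge (autFun_mem α (he.le hx)))
  refine ⟨β, hβ, fun x => ?_, fun c hc => ?_⟩
  · rw [← autFun_apply, ← autFun_apply]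
    exact eβ x (Subgroup.mem_sup_left x.2)
  · rw [← autFun_apply, eβ c c.2]
    have hc0 : (c : Ω) ∈ (T ⊔ centralizerIn S T) := hC hc
    have hm := (isMap_autFun (F := G) le_rfl).mpr hα
    refine ⟨(T ⊔ centralizerIn S T).mul_mem ((T ⊔ centralizerIn S T).inv_mem hc0) (hm.mem_S hc0),
      Subgroup.mul_mem _ (Subgroup.inv_mem _ ?_) ?_⟩
    · exact hc.2
    · refine Subgroup.mem_centralizer_iff.mpr fun y hy => ?_
      have h1 : (c : Ω) * autFun α⁻¹ y * (c : Ω)⁻¹ = autFun α⁻¹ y :=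
        (Fusion.mem_centralizerIn.mp hc).2 _ (autFun_mem _ hy)
      have h2 := congrArg (autFun α) h1
      rw [hm.map_conj hc0 (autFun_mem _ hy), autFun_inv_apply α hy] at h2
      exact (mul_inv_eq_iff_eq_mul.mp h2).symm

end Cfsg.Lib.Fusion.ResLim
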