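import Cfsg.Agent.Fusion.Meet.Main
import Cfsg.Agent.Fusion.WeaklyNormalLeast
import Cfsg.Agent.Fusion.TerminatingSeries
import Cfsg.Agent.Fusion.PPowerTheory

/-!
The residual limit of a weakly normal subsystem is weakly normal; stable weakly normal subsystems
descend into normal subsystems.
-/

set_option autoImplicit false
set_option linter.unusedSectionVars false
set_option linter.style.haveILetI false

namespace Cfsg.Lib.Fusion.ResLim

open Cfsg Cfsg.FusionSystem Cfsg.Lib.Fusion

variable {Ω : Type*} [Group Ω] {S T U V : Subgroup Ω} {F : FusionSystem S} {E : FusionSystem T}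
  {G : FusionSystem U} {X : FusionSystem V} {p : ℕ}

/-- The system is its own residuals. -/
def Stable (X : FusionSystem V) (p : ℕ) : Prop :=
  X.hyperfocalSubgroup p = V ∧ X.IsPPrimeResidual p X

theorem le_of_sub (h : E.IsSubsystemOf F) : T ≤ S :=
  (CharSub.isMap_of_sub h (isMap_id (F := E) le_rfl)).le

theorem sub_trans (h : X.IsSubsystemOf E) (h' : E.IsSubsystemOf F) : X.IsSubsystemOf F :=
  fun P φ hφ => h' P (h P hφ)

variable [Finite S] [Fact p.Prime]

/-- Weak normality passes to intermediate saturated subsystems. -/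
theorem wn_restrict (hS : IsPGroup p S) (hX : X.IsWeaklyNormalIn F p) (hG : G.IsSaturated p)
    (hGF : G.IsSubsystemOf F) (hXG : X.IsSubsystemOf G) : X.IsWeaklyNormalIn G p := by
  obtain ⟨hXs, hF, hinv⟩ := hX
  have hUS : U ≤ S := le_of_sub hGF
  haveI := finite_of_le hUS
  have hUp : IsPGroup p U := hS.of_injective _ (Subgroup.inclusion_injective hUS)
  have hsc : G.StronglyClosed V := stronglyClosed_of_apply (le_of_sub hXG)
    fun P f hf x hx hxV => stronglyClosed_apply hinv.2.1 (CharSub.isMap_of_sub hGF hf) hx hxV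
  exact ⟨hXs, hG, (invariant_iff_strongInv hUp hG hXG hsc).mpr
    fun P Q hPQ hQ f hf hfQ g hg h hh =>
      strongInv_of_invariant hinv P Q hPQ hQ f hf hfQ g (CharSub.isMap_of_sub hGF hg) h hh⟩

/-- Transitivity of weak normality under invariance by the automizer. -/
theorem wn_trans (hS : IsPGroup p S) (hG : G.IsWeaklyNormalIn F p) (hX : X.IsWeaklyNormalIn G p)
    (htr : ∀ α ∈ F.autGroup U, ∀ (P : Subgroup Ω) (f : Ω → Ω), IsMap X P f →
      IsMap X (img P (autFun α)) (fun y => autFun α (f (autFun α⁻¹ y)))) :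
    X.IsWeaklyNormalIn F p := by
  obtain ⟨hGs, hF, hinv⟩ := hG
  obtain ⟨hXs, -, hinvX⟩ := hX
  have hVU : V ≤ U := hinvX.2.1.1
  have hUS : U ≤ S := hinv.2.1.1
  have hsub : X.IsSubsystemOf F := sub_trans hinvX.1 hinv.1
  have hsc : F.StronglyClosed V := stronglyClosed_of_apply (hVU.trans hUS)
    fun P f hf x hx hxV => by
      obtain ⟨α, hα, f₀, hf₀, e⟩ := invariant_frattiniT hinv (P := P ⊓ V) (inf_le_right.trans hVU)
        (hf.mono inf_le_left)
      rw [e x ⟨hx, hxV⟩]
      have h := htr α hα V id (isMap_id le_rfl)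
      exact h.le (IsMap.apply_mem_img (stronglyClosed_apply hinvX.2.1 hf₀ ⟨hx, hxV⟩ hxV))
  refine ⟨hXs, hF, (invariant_iff_strongInv hS hF hsub hsc).mpr ?_⟩
  intro P Q hPQ hQ f hf hfQ g hg h hh
  obtain ⟨a, ha, g₀, hg₀, he⟩ := invariant_frattiniT hinv (hQ.trans hVU) hg
  obtain ⟨d, -, -, hdl, -⟩ := (hg₀.mono hPQ).exists_inv
  have h1 : IsMap X (img P g₀) (g₀ ∘ f ∘ d) :=
    strongInv_of_invariant hinvX P Q hPQ hQ f hf hfQ g₀ hg₀ _ fun x hx => by
      show g₀ (f (d (g₀ x))) = _
      rw [hdl x hx]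
  have hle : img P g ≤ img (img P g₀) (autFun a) := IsMap.img_le_iff.mpr fun x hx => by
    rw [he x (hPQ hx)]
    exact IsMap.apply_mem_img (IsMap.apply_mem_img hx)
  refine ((htr a ha _ _ h1).mono hle).congr fun y hy => ?_
  obtain ⟨x, hx, rfl⟩ := (hg.mono hPQ).mem_img.mp hy
  rw [hh x hx, he _ (hfQ x hx)]
  show _ = autFun a (g₀ (f (d (autFun a⁻¹ (g x)))))
  rw [he x (hPQ hx), autFun_inv_apply' a (hg₀.mem_S (hPQ hx)), hdl x hx]

/-- Transport of an automorphism by an automorphism of the top of an invariant subsystem. -/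
theorem congr_mem (hE : E.IsInvariantIn F) {α : MulAut T} (hα : α ∈ F.autGroup T)
    {P : Subgroup Ω} (hP : P ≤ T) {g : Ω → Ω} (hg : IsMap F P g)
    (e : ∀ x ∈ P, g x = autFun α x) {β : MulAut P} (hβ : β ∈ E.autGroup P) :
    MulAut.congr (hg.equiv rfl) β ∈ E.autGroup (img P g) := by
  have hTS : T ≤ S := hE.2.1.1
  have h := invariant_transportT hE hTS ((isMap_autFun hP).mpr hβ) hα
  rw [← img_congr e] at h
  refine (isMap_autFun h.le).mp (h.congr fun y hy => ?_)
  obtain ⟨x, hx, rfl⟩ := hg.mem_img.mp hy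
  rw [congr_equiv_spec hg rfl β hx]
  show _ = autFun α (autFun β (autFun α⁻¹ (g x)))
  rw [e x hx, autFun_inv_apply' α (hP hx), e _ (autFun_mem β hx)]

/-- The residual of `p`-power index of a weakly normal subsystem is weakly normal. -/
theorem hyperfocal_wn (hS : IsPGroup p S) (hE : E.IsWeaklyNormalIn F p)
    {D : FusionSystem (E.hyperfocalSubgroup p)} (hDs : D.IsSaturated p)
    (hDi : D.HasPPowerIndexIn E p) : D.IsWeaklyNormalIn F p := by
  obtain ⟨hEs, hF, hinv⟩ := id hE
  have hTS : T ≤ S := hinv.2.1.1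
  haveI := finite_of_le hTS
  have hTp : IsPGroup p T := hS.of_injective _ (Subgroup.inclusion_injective hTS)
  have hWT : E.hyperfocalSubgroup p ≤ T := hyperfocalSubgroup_le E p
  haveI := finite_of_le hWT
  let W := E.hyperfocalSubgroup p
  have hDn := PPower.normal_of_index hTp hEs hWT
    (fun s hs x hx => conj_mem_hyperfocalSubgroup hs hx) hDs hDi
  have hWfix : ∀ α ∈ F.autGroup T, ∀ x ∈ W, autFun α x ∈ W := by
    intro α hα
    have hai : IsMap F T (autFun α⁻¹) := (isMap_autFun hTS).mpr (Subgroup.inv_mem _ hα)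
    have hle : E.hyperfocalSubgroup p ≤ img W (autFun α⁻¹) := by
      refine hyperfocal_le_of_coprime fun P hP β hβ hcop x hx => ?_
      have hm : IsMap F P (autFun α) := ((isMap_autFun hTS).mpr hα).mono hP
      haveI := finite_of_le hP
      have hβ' := congr_mem hinv hα hP hm (fun _ _ => rfl) hβ
      have hw := mem_hyperfocalSubgroup (p := p) (IsMap.img_le_iff.mpr fun z hz => autFun_mem α (hP hz))
        (α := ⟨_, hβ'⟩) (Cfsg.Lib.Transfer.mem_pResidual_of_coprime (by
          rwa [Subgroup.orderOf_mk, MulEquiv.orderOf_eq])) (IsMap.apply_mem_img (f := autFun α) hx)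
      rw [congr_equiv_spec hm rfl β hx] at hw
      have hxT := hP hx
      have hβT := hP (autFun_mem β hx)
      have hma : IsMap F T (autFun α) := (isMap_autFun hTS).mpr hα
      rw [← hma.map_inv hxT, ← hma.map_mul (T.inv_mem hxT) hβT] at hw
      rw [← autFun_inv_apply' α (T.mul_mem (T.inv_mem hxT) hβT)]
      exact IsMap.apply_mem_img hw
    intro x hx
    obtain ⟨y, hy, rfl⟩ := (hai.mono hWT).mem_img.mp (hle hx)
    rwa [autFun_inv_apply α (hWT hy)]
  have hsc : F.StronglyClosed W := stronglyClosed_of_apply (hWT.trans hTS)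
    fun P f hf x hx hxW => by
      obtain ⟨α, hα, f₀, hf₀, e⟩ := invariant_frattiniT hinv (P := P ⊓ W) (inf_le_right.trans hWT)
        (hf.mono inf_le_left)
      rw [e x ⟨hx, hxW⟩]
      exact hWfix α hα _ (stronglyClosed_apply hDn.1.2.2.2.1 hf₀ ⟨hx, hxW⟩ hxW)
  refine wn_trans hS hE hDn.1 fun α hα P f hf => ?_
  have hαW : IsMap F W (autFun α) := ((isMap_autFun hTS).mpr hα).mono hWT
  obtain ⟨a, ha, ea⟩ := hαW.exists_aut (img_eq_of_apply hαW le_rfl (hWfix α hα))
  have ha' : IsMap F W (autFun a) := (isMap_autFun hαW.le).mpr ha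
  have hcls := WeaklyNormal.transport_class (E := D) (D := D) hsc ha
  have hsite : ∀ Q : Subgroup Ω, D.IsFullyNormalized Q → ∀ γ ∈ D.autGroup Q,
      IsMap D (img Q (autFun a)) (fun y => autFun a (autFun γ (autFun a⁻¹ y))) := by
    intro Q hQn
    have hQ := hQn.1
    haveI := finite_of_le hQ
    have hm := ha'.mono hQ
    have hQ' : img Q (autFun a) ≤ W := IsMap.img_le_iff.mpr fun x hx => autFun_mem a (hQ hx)
    suffices hle : D.autGroup Q ≤ (D.autGroup (img Q (autFun a))).comap
        (MulAut.congr (hm.equiv rfl)).toMonoidHom by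
      intro γ hγ
      refine ((isMap_autFun hQ').mpr (hle hγ)).congr fun y hy => ?_
      obtain ⟨x, hx, rfl⟩ := hm.mem_img.mp hy
      show autFun a (autFun γ (autFun a⁻¹ (autFun a x))) =
        autFun (MulAut.congr (hm.equiv rfl) γ) (autFun a x)
      rw [autFun_inv_apply' a (hQ hx), congr_equiv_spec hm rfl γ hx]
    refine PPower.autGroup_le_of hTp hWT hDs hQn ?_ ?_
    · intro β hβ
      obtain ⟨t, ht, et⟩ := mem_autInducedBy.mp hβ
      refine Subgroup.mem_comap.mpr (autInducedBy_le hQ'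
        (mem_autInducedBy.mpr ⟨autFun a t, autFun_mem a ht, fun y => ?_⟩))
      obtain ⟨x, hx, e⟩ := hm.mem_img.mp y.2
      rw [← autFun_apply, ← e]
      show autFun (MulAut.congr (hm.equiv rfl) β) (autFun a x) = _
      rw [congr_equiv_spec hm rfl β hx, autFun_apply_mem _ hx, et, ha'.map_conj ht (hQ hx)]
    · intro β hβ hcop
      refine Subgroup.mem_comap.mpr (PPower.coprime_mem_autGroup hDi hQ'
        (congr_mem hinv hα (hQ.trans hWT) hm (fun x hx => ea x (hQ hx))
          (PPower.autGroup_le_of_sub hDi.1 hQ hWT hβ)) ?_)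
      show (orderOf (MulAut.congr (hm.equiv rfl) β)).Coprime p
      rwa [MulEquiv.orderOf_eq]
  have hWn : D.IsFullyNormalized W := ⟨le_rfl, fun Q hQ => by
    obtain ⟨g, hg, rfl⟩ := isConj_iff.mp hQ
    rw [Subgroup.eq_of_le_of_card_ge hg.img_le hg.card_img.ge]⟩
  have hWp : IsPGroup p W := hTp.of_injective _ (Subgroup.inclusion_injective hWT)
  have h := alperin_radical hWp hDs hcls (fun g hg => by
    obtain ⟨γ, hγ, e⟩ := hg.exists_aut (Subgroup.eq_of_le_of_card_ge hg.img_le hg.card_img.ge)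
    exact hcls.congr W _ g ((isMap_autFun le_rfl).mpr hγ) (fun x hx => (e x hx).symm)
      (hsite W hWn γ hγ)) (fun Q _ hQn _ _ _ γ hγ => hsite Q hQn γ hγ) hf
  rw [img_congr fun x hx => ea x (hf.le hx)] at h
  refine h.congr fun y hy => ?_
  obtain ⟨x, hx, rfl⟩ := (hαW.mono hf.le).mem_img.mp hy
  show autFun α (f (autFun α⁻¹ (autFun α x))) = autFun a (f (autFun a⁻¹ (autFun α x)))
  rw [autFun_inv_apply' α (hWT (hf.le hx)), ← ea x (hf.le hx), autFun_inv_apply' a (hf.le hx),
    ea _ (hf.mem_S hx)]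

/-- The residual limit of a weakly normal subsystem is weakly normal, stable and below it. -/
theorem limit_props (hS : IsPGroup p S) {q : ℕ} (h : X.IsResidualLimitOf G q) :
    q = p → G.IsWeaklyNormalIn F p →
      X.IsWeaklyNormalIn F p ∧ Stable X p ∧ X.IsSubsystemOf G := by
  induction h with
  | stable G q h1 h2 =>
    rintro rfl hG
    exact ⟨hG, ⟨h1, h2⟩, fun _ => Set.Subset.rfl⟩
  | step G q D D' hD hD' _ ih =>
    rintro rfl hG
    have hDw := hyperfocal_wn hS hG hD.1 hD.2
    obtain ⟨h1, h2, h3⟩ := ih rfl (WeaklyNormal.residual_normal hS hDw hD').1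
    exact ⟨h1, h2, sub_trans h3 (sub_trans hD'.2.1.1 hD.2.1)⟩

/-- A stable weakly normal subsystem lies in every normal subsystem over a large enough group. -/
theorem le_normal (hS : IsPGroup p S) (hX : X.IsWeaklyNormalIn F p) (hst : Stable X p)
    (hG : G.IsNormalIn F p) (hVU : V ≤ U) : X.IsSubsystemOf G := by
  obtain ⟨M, ⟨hMF, -, hMG⟩, -⟩ :=
    Meet.exists_meet hS (WeaklyNormal.residual_normal hS hX hst.2) hG
  have key : ∀ (W : Subgroup Ω) (M : FusionSystem W), W = V → M.IsWeaklyNormalIn F p →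
      M.IsSubsystemOf G → X.IsSubsystemOf G := by
    rintro W M rfl hM hMG
    exact sub_trans (WeaklyNormal.residual_le hS hX hst.2 hM) hMG
  exact key _ M (inf_eq_left.mpr hVU) hMF.1 hMG.1.2.2.1

/-- A stable weakly normal subsystem lies in every residual limit. -/
theorem le_limit {W : Subgroup Ω} {L : FusionSystem W} {q : ℕ} (h : L.IsResidualLimitOf G q) :
    q = p → Finite U → IsPGroup p U → G.IsSaturated p →
      X.IsWeaklyNormalIn G p → Stable X p → X.IsSubsystemOf L := by
  induction h with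
  | stable G q _ _ => exact fun _ _ _ _ hX _ => hX.2.2.1
  | @step U L G q D D' hD hD' h' ih =>
    rintro rfl hfin hUp hGs hX hst
    haveI := hfin
    have hWU : G.hyperfocalSubgroup q ≤ U := hyperfocalSubgroup_le G q
    haveI := finite_of_le hWU
    have hWp : IsPGroup q (G.hyperfocalSubgroup q) :=
      hUp.of_injective _ (Subgroup.inclusion_injective hWU)
    have hV : V ≤ G.hyperfocalSubgroup q :=
      hst.1 ▸ PPower.hyperfocal_le_of_sub hX.2.2.1 hX.2.2.2.1.1
    have hDn := PPower.normal_of_index hUp hGs hWU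
      (fun s hs x hx => conj_mem_hyperfocalSubgroup hs hx) hD.1 hD.2
    have hXD := le_normal hUp hX hst hDn hV
    have hXwD := wn_restrict hUp hX hD.1 hD.2.1 hXD
    have hD'n := WeaklyNormal.residual_normal hWp (isWeaklyNormalIn_self hD.1) hD'
    have hXD' := le_normal hWp hXwD hst hD'n hV
    exact ih rfl inferInstance hWp hD'.1 (wn_restrict hWp hXwD hD'.1 hD'.2.1.1 hXD') hst

/-- Two systems related both ways have the same maps. -/
theorem hom_eq {W : Subgroup Ω} {L : FusionSystem W} (h : X.IsSubsystemOf L)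
    (h' : L.IsSubsystemOf X) (P : Subgroup Ω) : X.Hom P = L.Hom P :=
  Set.Subset.antisymm (h P) (h' P)

/-- A normal subsystem containing a residual limit has the same residual limit. -/
theorem limit_eq (hS : IsPGroup p S) {V' : Subgroup Ω} {Y : FusionSystem V'}
    (hX : X.IsResidualLimitOf F p) (hF : F.IsSaturated p) (hG : G.IsWeaklyNormalIn F p)
    (hXG : X.IsSubsystemOf G) (hY : Y.IsResidualLimitOf G p) :
    ∀ P : Subgroup Ω, Y.Hom P = X.Hom P := by
  obtain ⟨hXw, hXst, -⟩ := limit_props hS hX rfl (isWeaklyNormalIn_self hF)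
  obtain ⟨hYw, hYst, -⟩ := limit_props hS hY rfl hG
  have hUS : U ≤ S := hG.2.2.2.1.1
  haveI := finite_of_le hUS
  have hUp : IsPGroup p U := hS.of_injective _ (Subgroup.inclusion_injective hUS)
  exact hom_eq (le_limit hX rfl inferInstance hS hF hYw hYst)
    (le_limit hY rfl inferInstance hUp hG.1 (wn_restrict hS hXw hG.1 hG.2.2.1 hXG) hXst)

end Cfsg.Lib.Fusion.ResLim
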